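import Cfsg.Agent.HForm.OSpec

/-! Blocks of determinant and spinor norm one. -/

namespace Cfsg.Agent.HForm

open Polynomial Module Matrix Cfsg.Agent.Forms

universe u
variable {F : Type u} [Field F] [Fintype F]

variable (F) in
/-- a block in `Ω` whose order is a multiple of `M` -/
def Blk (n : ℕ) (D : F) (M : ℕ) : Prop :=
  ∃ Z : F[X] → Prop, OForm n D 1 1 Z ∧ ∀ k, Z (X ^ k - C 1) → M ∣ k

theorem Blk.of_dvd {n : ℕ} {D : F} {M M' : ℕ} (h : Blk F n D M) (hM : M' ∣ M) : Blk F n D M' :=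
  h.imp fun _ h => ⟨h.1, fun k hk => hM.trans (h.2 k hk)⟩

variable (hF : Odd (Fintype.card F))
include hF

theorem Blk.sum {n n' : ℕ} {D D' : F} {M M' : ℕ} (h : Blk F n D M) (h' : Blk F n' D' M') :
    Blk F (n + n') (D * D') (Nat.lcm M M') := by
  obtain ⟨Z, h1, h2⟩ := h
  obtain ⟨Z', h1', h2'⟩ := h'
  exact ⟨_, (h1.sum hF h1').congr rfl rfl (one_mul _) (one_mul _) fun _ => Iff.rfl,
    fun k hk => Nat.lcm_dvd (h2 k hk.1) (h2' k hk.2)⟩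

theorem blk_id (n : ℕ) : Blk F n 1 1 := by
  induction n with
  | zero => exact ⟨_, oform_zero hF, fun _ _ => one_dvd _⟩
  | succ n ih =>
    simpa using ih.sum hF (n' := 1) (M' := 1) ⟨_, oform_jordan hF 0 (Or.inl rfl), fun _ _ => one_dvd _⟩

theorem blk_neg : Blk F 2 1 2 :=
  ⟨_, oform_neg hF (Or.inl rfl), fun k hk => (even_of_neg_one_pow (two_ne_zero_of_odd hF) (by
    simpa [sub_eq_zero] using hk)).two_dvd⟩

theorem blk_half {d N : ℕ} (hd : 0 < d) (hN : TorN (Fintype.card F) d N) {t : ℕ} (ht : t ∣ N / 2)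
    (h2 : d = 1 ∨ 2 < t) : Blk F (2 * d) ((-1) ^ (N / 2)) t := by
  obtain ⟨θ, Z, h1, h3, h4, -⟩ := blk_tor hF hd hN (ht.trans (Dvd.intro_left 2 (hN.two_mul hF))) h2
  exact ⟨Z, h4 ht ▸ h1, fun k hk => (h3 k).mp hk⟩

theorem blk_odd {d t : ℕ} (hd : 0 < d)
    (h : t ∣ Fintype.card F ^ d - 1 ∨ t ∣ Fintype.card F ^ d + 1) (ht : Odd t) (h2 : 2 < t) :
    ∃ D, Blk F (2 * d) D t := by
  obtain ⟨N, hN, htN⟩ : ∃ N, TorN (Fintype.card F) d N ∧ t ∣ N := by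
    rcases h with h | h
    · exact ⟨_, Or.inl (Nat.sub_add_cancel (Nat.one_le_pow _ _ Fintype.card_pos)), h⟩
    · exact ⟨_, Or.inr rfl, h⟩
  rw [← hN.two_mul hF] at htN
  exact ⟨_, blk_half hF hd hN (ht.coprime_two_right.dvd_of_dvd_mul_left htN) (Or.inr h2)⟩

theorem blk_pair {d N d' N' : ℕ} (hd : 0 < d) (hN : TorN (Fintype.card F) d N) (hd' : 0 < d')
    (hN' : TorN (Fintype.card F) d' N') (h2 : d = 1 ∨ 2 < N) (h2' : d' = 1 ∨ 2 < N') :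
    Blk F (2 * d + 2 * d') ((-1) ^ (N / 2 + N' / 2)) (Nat.lcm N N') := by
  obtain ⟨θ, Z, h1, h3, -, h4⟩ := blk_tor hF hd hN dvd_rfl h2
  obtain ⟨θ', Z', h1', h3', -, h4'⟩ := blk_tor hF hd' hN' dvd_rfl h2'
  exact ⟨_, (h1.sum hF h1').congr rfl (pow_add _ _ _).symm (one_mul _)
    (by rw [h4 rfl, h4' rfl]; simp) fun _ => Iff.rfl,
    fun k hk => Nat.lcm_dvd ((h3 k).mp hk.1) ((h3' k).mp hk.2)⟩

theorem Blk.toOdd (p : ℕ) [Fact p.Prime] [CharP F p] {n e j m M : ℕ} {D : F}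
    (h : Blk F (2 * n) D M) (hm : 2 ≤ m) (hn : n + e ≤ m)
    (h1 : 2 * e + 1 ≤ p ^ j) (h3 : j = 0 ∨ p ^ (j - 1) < 2 * e + 1) :
    Nat.lcm M (p ^ j) ∈ Set.range (orderOf : POmega F (quadFormOdd m F) → ℕ) := by
  obtain ⟨Z, h4, h5⟩ := h.sum hF (blk_id hF (2 * (m - n - e)))
  obtain ⟨x, hx⟩ := h4.toPOmegaOdd hF p hm (by omega) h1 h3
  obtain ⟨h6, h7⟩ := (hx _).mp dvd_rfl
  exact mem_range_orderOf_of_dvd ⟨x, rfl⟩
    (Nat.lcm_dvd ((Nat.dvd_lcm_left _ _).trans (h5 _ h6)) h7)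

theorem Blk.toOdd' {n m M : ℕ} {D : F} (h : Blk F (2 * n) D M) (hm : 2 ≤ m) (hn : n ≤ m) :
    M ∈ Set.range (orderOf : POmega F (quadFormOdd m F) → ℕ) := by
  obtain ⟨p, hp⟩ := CharP.exists F
  have : Fact p.Prime := ⟨CharP.char_is_prime F p⟩
  simpa using h.toOdd hF p hm (e := 0) (j := 0) hn (by simp) (Or.inl rfl)

omit hF in
/-- Data attached to an element of `PΩ_{2m+1}`. -/
theorem pomega_odd_data {F : Type*} [Field F] [Fintype F] (hF : Odd (Fintype.card F)) (p : ℕ)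
    [Fact p.Prime] [CharP F p] {m : ℕ} (hm : 2 ≤ m) [DecidableEq (AlgebraicClosure F)]
    (x : POmega F (quadFormOdd m F)) : ∃ R : Multiset (AlgebraicClosure F),
      R.map (fun y => y ^ Fintype.card F) = R ∧ R.map (·⁻¹) = R ∧ 0 ∉ R ∧ R.card = 2 * m + 1 ∧
      R.prod = 1 ∧ ThetaOk (Fintype.card F) R ∧ (∀ y ∈ R, y ^ orderOf x = 1) ∧
      (∀ o k, (∀ y ∈ R, y ^ o = 1) → p ^ k ∣ o → (∀ y, y ≠ -1 → R.count y ≤ p ^ k) →
        Even (R.count (-1)) → R.count (-1) ≤ p ^ k + 1 → orderOf x ∣ o) ∧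
      ∀ r, r.Prime → r ≠ p → r ∣ orderOf x → ∃ y ∈ R, r ∣ orderOf y := by
  have h2 := two_ne_zero_of_odd hF
  revert x
  rw [← coe_QOdd]
  intro x
  induction x using QuotientGroup.induction_on with | H g =>
  have hB := QOdd_nondegenerate m h2
  have hc := card_odd_index m
  rw [orderOf_mk_omega hB (by omega) (hc ▸ odd_two_mul_add_one _)]
  obtain ⟨hR, hR', h0, hcard⟩ := o_evs (AlgebraicClosure F) hB g.1
  have hg1 : g.1.1.1 ^ orderOf g = 1 := by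
    rw [← o_pow_eq_one_iff, ← Subgroup.coe_pow, pow_orderOf_eq_one]; rfl
  refine ⟨_, hR, hR', h0, hcard.trans hc, omega_evs_prod _ g,
    omega_thetaOk _ hF hB (by omega) g, fun y hy => ?_, fun o k a b c d e => ?_,
    fun r hr hrp h => ?_⟩
  · simpa using evs_pow_eq _ g.1.1.1 (orderOf g) (1 : F) (by rw [one_smul, hg1]) y hy
  · exact orderOf_dvd_of_pow_eq_one (Subtype.ext (o_pow_eq_one h2 hB p g.1 o k a b c d e))
  · refine exists_ev_dvd_order _ p _ (orderOf_pos g) hg1 hr hrp fun k hk => h.trans ?_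
    exact orderOf_dvd_of_pow_eq_one (Subtype.ext ((o_pow_eq_one_iff _ _).mpr hk))

end Cfsg.Agent.HForm
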