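import Cfsg.Agent.HForm.Wall
import Cfsg.Agent.Forms.StdDisc
import Cfsg.Agent.Polar.Pts

/-! Spectra of orthogonal groups in odd characteristic. -/

namespace Cfsg.Agent.HForm

open Polynomial Module Matrix Cfsg.Agent.Forms

universe u

section jordan
variable {F : Type*} [Field F] {V : Type*} [AddCommGroup V] [Module F V] [FiniteDimensional F V]

theorem det_sub_eq_eval (g : V →ₗ[F] V) (t : F) :
    LinearMap.det (t • 1 - g) = g.charpoly.eval t := by
  let b := Module.finBasis F V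
  rw [← LinearMap.charpoly_toMatrix g b, Matrix.eval_charpoly, ← LinearMap.det_toMatrix b, map_sub,
    map_smul, LinearMap.toMatrix_one, scalar_apply, smul_one_eq_diagonal]

theorem det_one_sub (g : V →ₗ[F] V) : LinearMap.det (1 - g) = g.charpoly.eval 1 := by
  rw [← det_sub_eq_eval, one_smul]

theorem det_one_add (g : V →ₗ[F] V) :
    LinearMap.det (1 + g) = (-1) ^ finrank F V * g.charpoly.eval (-1) := by
  rw [← det_sub_eq_eval, ← LinearMap.det_smul]
  congr 1
  module

/-- An orthogonal transformation has no single Jordan block of even size for `±1`. -/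
theorem aeval_eq_zero_of_even (h2 : (2 : F) ≠ 0) (B : V →ₗ[F] V →ₗ[F] F)
    (hs : ∀ x y, B y x = B x y) (hnd : ∀ x, (∀ y, B x y = 0) → x = 0) (g : Module.End F V)
    (hg : ∀ x y, B (g x) (g y) = B x y) {c : F} (hc : c * c = 1) {m : ℕ} (hm : Odd m) {h : F[X]}
    (hχ : g.charpoly = (X - C c) ^ (m + 1) * h) (hh : h.eval c ≠ 0) :
    aeval g ((X - C c) ^ m * h) = 0 := by
  obtain ⟨N, hN⟩ : ∃ N : V →ₗ[F] V, N = aeval g (X - C c) := ⟨_, rfl⟩
  have hNx : ∀ x, N x = g x - c • x := fun x => by simp [hN]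
  have hCH : ∀ x, (N ^ (m + 1)) (aeval g h x) = 0 := fun x => by
    have := LinearMap.congr_fun (LinearMap.aeval_self_charpoly g) x
    rwa [hχ, map_mul, map_pow, ← hN] at this
  have hh0 : h ≠ 0 := by rintro rfl; simp at hh
  have hdim : finrank F (g.maxGenEigenspace c) = m + 1 := by
    rw [LinearMap.finrank_maxGenEigenspace_eq, hχ, mul_comm,
      rootMultiplicity_mul_X_sub_C_pow hh0, rootMultiplicity_eq_zero hh, zero_add]
  have hmem : ∀ x k, (N ^ k) x = 0 → x ∈ g.maxGenEigenspace c := fun x k hk => by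
    rw [Module.End.mem_maxGenEigenspace]
    refine ⟨k, ?_⟩
    rw [← hk, hN]; simp [Algebra.algebraMap_eq_smul_one]
  ext x
  rw [map_mul, map_pow, ← hN, Module.End.mul_apply, LinearMap.zero_apply]
  obtain ⟨w, hw⟩ : ∃ w, w = aeval g h x := ⟨_, rfl⟩
  have hw0 := hCH x
  rw [← hw] at hw0 ⊢
  by_contra hz
  have hNz : g ((N ^ m) w) = c • (N ^ m) w := by
    rw [← sub_eq_zero, ← hNx, ← Module.End.mul_apply, ← pow_succ', hw0]
  have hzg : ∀ t, B ((N ^ m) w) (g t) = c * B ((N ^ m) w) t := fun t => by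
    rw [← hg _ t, hNz, map_smul, LinearMap.smul_apply, smul_eq_mul, ← mul_assoc, hc, one_mul]
  have hzN : ∀ t, B ((N ^ m) w) (N t) = 0 := fun t => by
    rw [hNx, map_sub, hzg, map_smul, smul_eq_mul, sub_self]
  have hcomm : ∀ t, g (N t) = N (g t) := fun t => by rw [hNx, hNx, map_sub, map_smul]
  have hadj : ∀ k a b, B ((N ^ k) a) ((g ^ k) b) = (-c) ^ k * B a ((N ^ k) b) := by
    intro k
    induction k with
    | zero => simp
    | succ k ih =>
      intro a b
      have e : ∀ a b, B (N a) (g b) = -c * B a (N b) := fun a b => by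
        rw [hNx, hNx, map_sub, LinearMap.sub_apply, hg, map_smul, LinearMap.smul_apply, map_sub,
          map_smul, smul_eq_mul, smul_eq_mul]
        linear_combination -B a b * hc
      have e2 : N ((g ^ k) b) = (g ^ k) (N b) := by
        have : Commute g N := LinearMap.ext hcomm
        exact (LinearMap.congr_fun (this.pow_left k).eq b).symm
      rw [pow_succ' N, pow_succ' g, Module.End.mul_apply, Module.End.mul_apply, e, e2, ih,
        ← Module.End.mul_apply, ← pow_succ, ← pow_succ' N]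
      ring
  have hzw : B ((N ^ m) w) w = 0 := by
    have h1 := hadj m w w
    have h3 : ∀ k t, B ((N ^ m) w) ((g ^ k) t) = c ^ k * B ((N ^ m) w) t := by
      intro k t
      induction k with
      | zero => simp
      | succ k ih => rw [pow_succ' g, Module.End.mul_apply, hzg, ih]; ring
    rw [h3, hm.neg_pow, ← hs w] at h1
    have hc0 := pow_ne_zero m (left_ne_zero_of_mul_eq_one hc)
    apply mul_left_cancel₀ (mul_ne_zero h2 hc0)
    linear_combination h1
  let v : Fin (m + 1) → g.maxGenEigenspace c := fun i => ⟨(N ^ (i : ℕ)) w, hmem _ (m + 1) (by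
    rw [← Module.End.mul_apply, ← pow_add, add_comm, pow_add, Module.End.mul_apply, hw0, map_zero])⟩
  have hli : LinearIndependent F v := by
    rw [Fintype.linearIndependent_iff]
    intro a ha
    have h1 := congrArg Subtype.val ha
    simp only [v, Submodule.coe_sum, Submodule.coe_smul, Submodule.coe_zero] at h1
    suffices ∀ n, ∀ i : Fin (m + 1), (i : ℕ) = n → a i = 0 from fun i => this _ i rfl
    intro n
    induction n using Nat.strong_induction_on with | _ n ih => ?_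
    intro i hi
    have h3 := congrArg (N ^ (m - i)) h1
    rw [map_sum, map_zero, Finset.sum_eq_single i] at h3
    · rw [map_smul, ← Module.End.mul_apply, ← pow_add, Nat.sub_add_cancel (by omega)] at h3
      exact (smul_eq_zero.mp h3).resolve_right hz
    · intro j _ hj
      rw [map_smul]
      rcases lt_or_gt_of_ne (Fin.val_ne_of_ne hj) with h4 | h4
      · rw [ih j (by omega) j rfl, zero_smul]
      · rw [← Module.End.mul_apply, ← pow_add,
          show m - i + j = (j - i - 1) + (m + 1) by omega, pow_add, Module.End.mul_apply, hw0,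
          map_zero, smul_zero]
    · simp
  have hsp := hli.span_eq_top_of_card_eq_finrank' (by simp [hdim])
  have hW : ∀ y ∈ g.maxGenEigenspace c, B ((N ^ m) w) y = 0 := by
    intro y hy
    obtain ⟨a, ha⟩ := (Submodule.mem_span_range_iff_exists_fun F).mp
      (hsp ▸ Submodule.mem_top : (⟨y, hy⟩ : g.maxGenEigenspace c) ∈ Submodule.span F (Set.range v))
    have := congrArg Subtype.val ha
    simp only [v, Submodule.coe_sum, Submodule.coe_smul] at this
    rw [← this, map_sum]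
    refine Finset.sum_eq_zero fun i _ => ?_
    rw [map_smul]
    rcases Nat.eq_zero_or_pos (i : ℕ) with h0 | h0
    · rw [h0, pow_zero, Module.End.one_apply, hzw, smul_zero]
    · obtain ⟨j, hj⟩ : ∃ j, (i : ℕ) = j + 1 := ⟨i - 1, by omega⟩
      rw [hj, pow_succ', Module.End.mul_apply, hzN, smul_zero]
  refine hz (hnd _ fun y => ?_)
  obtain ⟨a, b, hab⟩ := isCoprime_X_sub_C h c hh
  have := LinearMap.congr_fun (congrArg (aeval g) hab) y
  rw [mul_comm a, mul_comm b, map_add, map_mul, map_mul, ← hN, map_one, Module.End.one_apply,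
    LinearMap.add_apply, Module.End.mul_apply, Module.End.mul_apply] at this
  rw [← this, map_add, hzN, hW _ (hmem _ _ (hCH _)), add_zero]

end jordan

section chunk
variable {F : Type*} [Field F] [Fintype F] {K : Type*} [Field K] [Algebra F K]

/-- `N = q ^ d ∓ 1` -/
def TorN (q d N : ℕ) : Prop := N + 1 = q ^ d ∨ N = q ^ d + 1

theorem TorN.pm {q d N : ℕ} (h : TorN q d N) {x : K} (hx : x ^ N = 1) : PM q d x := by
  rcases h with h | h
  · left; rw [← h, pow_succ, hx, one_mul]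
  · right; rw [h, pow_succ] at hx; exact eq_inv_of_mul_eq_one_left hx

theorem PM.torN {q d : ℕ} {x : K} (h : PM q d x) (hx : x ≠ 0) (hq : 0 < q) :
    ∃ N, TorN q d N ∧ x ^ N = 1 := by
  rcases h.pow_eq_one hx hq with h | h
  · exact ⟨_, Or.inl (Nat.sub_add_cancel (Nat.one_le_pow _ _ hq)), h⟩
  · exact ⟨_, Or.inr rfl, h⟩

theorem TorN.two_mul {q d N : ℕ} (h : TorN q d N) (hq : Odd q) : 2 * (N / 2) = N := by
  obtain ⟨k, hk⟩ := hq.pow (n := d)
  rcases h with h | h <;> omega

theorem algebraMap_eu (c : F) :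
    algebraMap F K (eu c) = algebraMap F K c ^ (Fintype.card F / 2) := map_pow _ _ _

theorem chunk_neg {q : ℕ} (hq : Odd q) (d : ℕ) (x : K) :
    chunk q d (-x) = (chunk q d x).map (fun y => -y) := by
  simp only [chunk, Multiset.map_add, Multiset.map_map, Function.comp_def, hq.pow.neg_pow, inv_neg]

theorem prod_one_add_chunk [IsAlgClosed K] (hF : Odd (Fintype.card F)) {d N : ℕ} (hd : 0 < d)
    (hN : TorN (Fintype.card F) d N) {x : K} (hx : x ^ N = 1) (hx0 : x ≠ 0)
    (h1 : ((chunk (Fintype.card F) d x).map (fun y => 1 + y)).prod ≠ 0) :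
    ((chunk (Fintype.card F) d x).map (fun y => 1 + y)).prod ^ (Fintype.card F / 2) =
      x ^ (N / 2) := by
  obtain ⟨w, rfl⟩ := IsAlgClosed.exists_pow_nat_eq x two_pos
  have hw : w ≠ 0 := fun h => hx0 (by simp [h])
  let φ := FiniteField.frobeniusAlgHom F K
  have hφ : ∀ y, φ y = y ^ Fintype.card F := fun y => rfl
  have h2N := hN.two_mul hF
  obtain ⟨k, hk⟩ := hF
  generalize Fintype.card F = q at *
  let a : ℕ → K := fun i => w ^ q ^ i + (w ^ q ^ i)⁻¹
  have hP : ((chunk q d (w ^ 2)).map (fun y => 1 + y)).prod =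
      (∏ i ∈ Finset.range d, a i) ^ 2 := by
    rw [chunk, Multiset.map_add, Multiset.prod_add, Multiset.map_map, Multiset.map_map,
      ← Finset.range_val, ← Finset.prod_eq_multiset_prod, ← Finset.prod_eq_multiset_prod,
      ← Finset.prod_mul_distrib, ← Finset.prod_pow]
    refine Finset.prod_congr rfl fun i _ => ?_
    have := pow_ne_zero (q ^ i) hw
    simp only [Function.comp, a, ← pow_mul w 2, mul_comm 2, pow_mul w _ 2]
    field_simp
    ring
  rw [hP] at h1 ⊢
  have hP0 : ∏ i ∈ Finset.range d, a i ≠ 0 := fun h => h1 (by simp [h])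
  have ha : ∀ i, φ (a i) = a (i + 1) := fun i => by
    simp only [a]
    rw [map_add, map_inv₀, hφ, ← pow_mul, ← pow_succ]
  have hε : (w ^ N) ^ 2 = 1 := by rw [← pow_mul, mul_comm, pow_mul, hx]
  have hεi : (w ^ N)⁻¹ = w ^ N := inv_eq_of_mul_eq_one_left (by rw [← sq, hε])
  have had : a d = w ^ N * a 0 := by
    simp only [a, pow_zero, pow_one]
    rcases hN with h | h
    · rw [← h, pow_succ, mul_inv, hεi]; ring
    · have : w ^ q ^ d = w ^ N * w⁻¹ := by rw [h, pow_succ, mul_inv_cancel_right₀ hw]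
      rw [this, mul_inv, hεi, inv_inv]; ring
  have h3 : (∏ i ∈ Finset.range d, a i) ^ q = w ^ N * ∏ i ∈ Finset.range d, a i := by
    rw [← hφ, map_prod]
    simp only [ha]
    have ha0 : a 0 ≠ 0 := Finset.prod_ne_zero_iff.mp hP0 0 (Finset.mem_range.mpr hd)
    apply mul_right_cancel₀ ha0
    rw [← Finset.prod_range_succ', Finset.prod_range_succ, had]; ring
  rw [← pow_mul, ← pow_mul, h2N, show 2 * (q / 2) = 2 * k by omega]
  apply mul_right_cancel₀ hP0
  rw [← pow_succ, ← hk, h3]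

omit [Fintype F] in
theorem algebraMap_eval [IsAlgClosed K] (f : F[X]) (hf : f.Monic) (t : F) :
    algebraMap F K (f.eval t) = ((f.aroots K).map (fun y => algebraMap F K t - y)).prod := by
  rw [← eval₂_at_apply, eval₂_eq_eval_map, map_eq_prod_aroots f hf, eval_multiset_prod,
    Multiset.map_map]
  simp

omit [Fintype F] in
theorem algebraMap_eval_neg_one [IsAlgClosed K] (f : F[X]) (hf : f.Monic) :
    algebraMap F K ((-1) ^ f.natDegree * f.eval (-1)) =
      ((f.aroots K).map (fun y => 1 + y)).prod := by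
  rw [map_mul, algebraMap_eval f hf, ← card_aroots_eq (K := K), map_pow, map_neg, map_one,
    ← Multiset.prod_replicate, ← Multiset.map_const', ← Multiset.prod_map_mul]
  congr 2
  funext y; ring

end chunk

section oform
variable {F : Type u} [Field F] [Fintype F]

/-- An orthogonal space with an isometry, with given dimension, discriminant, determinant and
spinor norm. -/
def OForm (n : ℕ) (D δ θ : F) (Z : F[X] → Prop) : Prop :=
  ∃ (V : Type u) (_ : AddCommGroup V) (_ : Module F V) (_ : FiniteDimensional F V)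
    (Q : QuadraticForm F V) (g : V →ₗ[F] V), (pol Q).Nondegenerate ∧ (∀ x, Q (g x) = Q x) ∧
    finrank F V = n ∧ dsc Q = D ∧ LinearMap.det g = δ ∧ wth Q g = θ ∧
    ∀ P : F[X], aeval g P = 0 ↔ Z P

theorem OForm.congr {n n' : ℕ} {D δ θ D' δ' θ' : F} {Z Z' : F[X] → Prop} (h : OForm n D δ θ Z)
    (hn : n = n') (hD : D = D') (hδ : δ = δ') (hθ : θ = θ') (hZ : ∀ P, Z P ↔ Z' P) :
    OForm n' D' δ' θ' Z' := by
  subst hn hD hδ hθ
  obtain rfl : Z = Z' := funext fun P => propext (hZ P)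
  exact h

variable (hF : Odd (Fintype.card F))
include hF

theorem OForm.sign {n : ℕ} {D δ θ : F} {Z : F[X] → Prop} (h : OForm n D δ θ Z) :
    D = 1 ∨ D = -1 := by
  obtain ⟨V, i1, i2, i3, Q, g, h1, -, -, rfl, -⟩ := h
  exact dsc_sign hF h1

theorem OForm.sum {n n' : ℕ} {D δ θ D' δ' θ' : F} {Z Z' : F[X] → Prop} (h : OForm n D δ θ Z)
    (h' : OForm n' D' δ' θ' Z') :
    OForm (n + n') (D * D') (δ * δ') (θ * θ') (fun P => Z P ∧ Z' P) := by
  obtain ⟨V, i1, i2, i3, Q, g, h1, h2, rfl, rfl, rfl, rfl, h3⟩ := h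
  obtain ⟨V', j1, j2, j3, Q', g', h1', h2', rfl, rfl, rfl, rfl, h3'⟩ := h'
  refine ⟨V × V', inferInstance, inferInstance, inferInstance, Q.prod Q', g.prodMap g',
    nondegenerate_of_symm fun x hx => Prod.ext (h1.1 _ fun y => ?_) (h1'.1 _ fun y => ?_),
    fun x => by simp [h2, h2'], finrank_prod, dsc_prod hF Q', LinearMap.det_prodMap _ _,
    wth_prod hF h1 h2 h1' h2', fun P => ?_⟩
  · simpa [pol_prod] using hx (y, 0)
  · simpa [pol_prod] using hx (0, y)
  · beta_reduce
    rw [aeval_prodMap, ← h3, ← h3']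
    constructor
    · intro h
      exact ⟨LinearMap.ext fun x => congrArg Prod.fst (LinearMap.congr_fun h (x, 0)),
        LinearMap.ext fun x => congrArg Prod.snd (LinearMap.congr_fun h (0, x))⟩
    · rintro ⟨h, h'⟩
      rw [h, h', LinearMap.prodMap_zero]

theorem Real.oform {A : Prop} {χ : F[X]} {Z : F[X] → Prop} (h : Real (RingHom.id F) 1 A χ Z) :
    ∃ D₀ : F, (D₀ = 1 ∨ D₀ = -1) ∧ ∀ c : F, c ≠ 0 → ∃ θ,
      OForm χ.natDegree (eu (c ^ χ.natDegree) * D₀) ((-1) ^ χ.natDegree * χ.coeff 0) θ Z ∧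
      (χ.eval 1 ≠ 0 → θ = eu (c ^ χ.natDegree) * D₀ * eu (χ.eval 1)) ∧
      (χ.eval (-1) ≠ 0 → θ = eu (2 ^ χ.natDegree * ((-1) ^ χ.natDegree * χ.eval (-1)))) := by
  obtain ⟨V, i1, i2, i3, B, g, h1, -, h3, h4, rfl, h6⟩ := h
  have h2 := two_ne_zero_of_odd hF
  have hnd : ∀ c : F, c ≠ 0 → (pol (c • LinearMap.BilinMap.toQuadraticMap B)).Nondegenerate :=
    fun c hc => nondegenerate_of_symm fun x hx => h3 x fun y => by
      have := hx y
      simp only [polarBilin_eq_of_companion, _root_.smul_apply,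
        LinearMap.BilinMap.toQuadraticMap_apply, map_add, LinearMap.add_apply, h1 x y, smul_eq_mul,
        RingHom.id_apply] at this
      apply mul_left_cancel₀ (mul_ne_zero h2 hc)
      linear_combination this
  refine ⟨dsc (LinearMap.BilinMap.toQuadraticMap B), dsc_sign hF (by simpa using hnd 1 one_ne_zero),
    fun c hc => ?_⟩
  have hiso : ∀ x, (c • LinearMap.BilinMap.toQuadraticMap B) (g x) =
      (c • LinearMap.BilinMap.toQuadraticMap B) x := fun x => by simp [h4]
  rw [LinearMap.charpoly_natDegree]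
  refine ⟨_, ⟨V, i1, i2, i3, _, g, hnd c hc, hiso, rfl, dsc_smul c,
    LinearMap.det_eq_sign_charpoly_coeff g, rfl, h6⟩, fun h => ?_, fun h => ?_⟩
  · rw [wth_eq_of_one_sub hF (hnd c hc) hiso (det_one_sub g ▸ h), det_one_sub, dsc_smul]
  · rw [wth_eq_of_one_add hF (hnd c hc) hiso (by
      rw [det_one_add]; exact mul_ne_zero (pow_ne_zero _ (by simp)) h), det_one_add]

theorem Real.oform_odd {A : Prop} {χ : F[X]} {Z : F[X] → Prop}
    (h : Real (RingHom.id F) 1 A χ Z) (hodd : Odd χ.natDegree) {D : F} (hD : D = 1 ∨ D = -1) :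
    ∃ θ, OForm χ.natDegree D (-χ.coeff 0) θ Z ∧ (χ.eval 1 ≠ 0 → θ = D * eu (χ.eval 1)) ∧
      (χ.eval (-1) ≠ 0 → θ = eu (2 ^ χ.natDegree * (-χ.eval (-1)))) := by
  obtain ⟨D₀, hD₀, h⟩ := h.oform hF
  obtain ⟨c, hc, hc'⟩ := exists_eu_eq hF (D := D * D₀) (by
    rcases hD with rfl | rfl <;> rcases hD₀ with rfl | rfl <;> simp)
  obtain ⟨θ, h⟩ := h c hc
  have e : eu (c ^ χ.natDegree) * D₀ = D := by
    rw [eu_pow, hc']
    rcases hD with rfl | rfl <;> rcases hD₀ with rfl | rfl <;> simp [hodd.neg_one_pow]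
  rw [e, hodd.neg_one_pow, neg_one_mul, neg_one_mul] at h
  exact ⟨θ, h⟩

theorem oform_jordan (e : ℕ) {D : F} (hD : D = 1 ∨ D = -1) :
    OForm (2 * e + 1) D 1 1 (fun P => (X - C 1) ^ (2 * e + 1) ∣ P) := by
  have h2 := two_ne_zero_of_odd hF
  have hrev := reverse_X_sub_C_pow (RingHom.id F) (1 : F) (by simp) (2 * e + 1)
  have h0 : (-1 : F) ^ (2 * e + 1) = -1 := (odd_two_mul_add_one e).neg_one_pow
  rw [Polynomial.map_id, RingHom.id_apply] at hrev
  have he : ((X - C 1) ^ (2 * e + 1) : F[X]).eval (-1) = -2 ^ (2 * e + 1) := by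
    rw [eval_pow, eval_sub, eval_X, eval_C, ← (odd_two_mul_add_one e).neg_pow]; congr 1; ring
  have he0 : ((X - C 1) ^ (2 * e + 1) : F[X]).eval (-1) ≠ 0 := by
    rw [he]; exact neg_ne_zero.mpr (pow_ne_zero _ h2)
  obtain ⟨θ, h, -, hθ⟩ := (real_o_cyclic_odd _ ((monic_X_sub_C 1).pow _) e
    (natDegree_X_sub_C_pow _ _) hrev (by rwa [coeff_zero_X_sub_C_pow, h0])).oform_odd hF
    (by rw [natDegree_X_sub_C_pow]; exact odd_two_mul_add_one e) hD
  refine h.congr (natDegree_X_sub_C_pow _ _) rfl (by rw [coeff_zero_X_sub_C_pow, h0, neg_neg]) ?_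
    fun _ => Iff.rfl
  rw [hθ he0, he, natDegree_X_sub_C_pow, neg_neg, eu_mul, eu_mul_self hF (pow_ne_zero _ h2)]

theorem oform_neg {D : F} (hD : D = 1 ∨ D = -1) :
    OForm 2 D 1 D (fun P => P.eval (-1) = 0) := by
  have h2 := two_ne_zero_of_odd hF
  have key : ∀ D : F, D = 1 ∨ D = -1 → OForm 1 D (-1) (D * eu 2) (fun P => P.eval (-1) = 0) := by
    intro D hD
    obtain ⟨θ, h, hθ, -⟩ := (real_one_dim (τ := RingHom.id F) (fun _ => rfl) (-1)
      (by simp)).oform_odd hF (by rw [natDegree_X_sub_C]; exact odd_one) hD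
    have e : (X - C (-1) : F[X]).eval 1 = 2 := by simp; ring
    exact h.congr (natDegree_X_sub_C _) rfl (by simp) (by rw [hθ (e ▸ h2), e]) fun _ => Iff.rfl
  refine ((key D hD).sum hF (key 1 (Or.inl rfl))).congr rfl (mul_one _) (by simp) ?_
    fun _ => and_self_iff
  rw [one_mul, mul_assoc, eu_mul_self hF h2, mul_one]

theorem oform_chunk {K : Type*} [Field K] [Algebra F K] [IsAlgClosed K] {d N : ℕ} (hd : 0 < d)
    (hN : TorN (Fintype.card F) d N) {x : K} (hx : x ^ N = 1) (hx0 : x ≠ 0) (hx1 : x ≠ x⁻¹) :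
    ∃ θ : F, algebraMap F K θ = x ^ (N / 2) ∧
      OForm (2 * d) ((-1) ^ (N / 2)) 1 θ (fun P => aeval x P = 0 ∧ aeval x⁻¹ P = 0) := by
  have h2 := two_ne_zero_of_odd hF
  have hPM := hN.pm hx
  obtain ⟨χ, hχ, hR, h⟩ := realR_o_ss (F := F) _ (chunk_frob hPM) (chunk_inv _ _ _)
    (chunk_ne_zero hx0)
  obtain ⟨D₀, -, h⟩ := h.oform hF
  obtain ⟨θ, h, hθ1, hθ2⟩ := h 1 one_ne_zero
  have hdeg : χ.natDegree = 2 * d := by rw [← card_aroots_eq (K := K), hR, card_chunk]
  have hne : ∀ y ∈ chunk (Fintype.card F) d x, y ^ 2 ≠ 1 := fun y hy h => by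
    rw [orderOf_of_mem_chunk frob_injective hy, sq] at h
    exact hx1 (eq_inv_of_mul_eq_one_left h)
  have e1 := algebraMap_eval (K := K) χ hχ 1
  have e2 := algebraMap_eval_neg_one (K := K) χ hχ
  rw [hR] at e1 e2
  have e3 : algebraMap F K (χ.eval 1) =
      ((chunk (Fintype.card F) d (-x)).map (fun y => 1 + y)).prod := by
    rw [e1, chunk_neg hF, Multiset.map_map]; simp [sub_eq_add_neg]
  have n1 : ((chunk (Fintype.card F) d (-x)).map (fun y => 1 + y)).prod ≠ 0 := by
    rw [← e3, e1]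
    refine Multiset.prod_ne_zero fun h => ?_
    obtain ⟨y, hy, h⟩ := Multiset.mem_map.mp h
    exact hne y hy (by rw [← sub_eq_zero.mp h]; simp)
  have n2 : ((chunk (Fintype.card F) d x).map (fun y => 1 + y)).prod ≠ 0 := by
    refine Multiset.prod_ne_zero fun h => ?_
    obtain ⟨y, hy, h⟩ := Multiset.mem_map.mp h
    exact hne y hy (by rw [← neg_eq_of_add_eq_zero_right h]; simp)
  have m1 : χ.eval 1 ≠ 0 := fun h => n1 (by rw [← e3, h, map_zero])
  have m2 : χ.eval (-1) ≠ 0 := fun h => n2 (by rw [← e2, h, mul_zero, map_zero])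
  have hθ : algebraMap F K θ = x ^ (N / 2) := by
    rw [hθ2 m2, hdeg, mul_comm 2 d, pow_mul, eu_sq_mul hF (pow_ne_zero _ h2), algebraMap_eu,
      mul_comm d 2, ← hdeg, e2, prod_one_add_chunk hF hd hN hx hx0 n2]
  have hNe : Even N := ⟨N / 2, by have := hN.two_mul hF; omega⟩
  have hD : D₀ = (-1) ^ (N / 2) := by
    apply (algebraMap F K).injective
    have := congrArg (algebraMap F K) (hθ1 m1)
    rw [one_pow, eu_one, one_mul, map_mul, algebraMap_eu, e3, prod_one_add_chunk hF hd hN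
      (by rw [hNe.neg_pow, hx]) (neg_ne_zero.mpr hx0) n1, hθ, neg_pow] at this
    have h3 : ((-1 : K) ^ (N / 2)) ^ 2 = 1 := by rw [← pow_mul, mul_comm, pow_mul]; simp
    rw [map_pow, map_neg, map_one]
    apply mul_right_cancel₀ (pow_ne_zero (N / 2) hx0)
    linear_combination (-(-1) ^ (N / 2)) * this - algebraMap F K D₀ * x ^ (N / 2) * h3
  refine ⟨θ, hθ, h.congr hdeg (by rw [one_pow, eu_one, one_mul, hD]) ?_ rfl fun P => ?_⟩
  · apply (algebraMap F K).injective
    rw [map_mul, algebraMap_coeff_zero χ hχ, hR, prod_chunk _ _ _ hx0, map_pow, map_neg, map_one,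
      mul_one, ← mul_pow]
    simp
  · refine ⟨fun h => ⟨h _ (self_mem_chunk hd x), h _ (inv_mem_chunk hd x)⟩, fun h y hy => ?_⟩
    have key : ∀ (z : K) (i : ℕ), aeval z P = 0 → aeval (z ^ Fintype.card F ^ i) P = 0 := by
      intro z i hz
      induction i with
      | zero => simpa using hz
      | succ i ih =>
        rw [pow_succ, pow_mul]
        have := aeval_algHom_apply (FiniteField.frobeniusAlgHom F K) (z ^ Fintype.card F ^ i) P
        rw [ih, map_zero] at this
        exact this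
    obtain ⟨i, -, rfl | rfl⟩ := mem_chunk.mp hy
    · exact key _ i h.1
    · rw [← inv_pow]; exact key _ i h.2

theorem OForm.toMat {ι : Type} [Fintype ι] [DecidableEq ι] {Q₀ : QuadraticForm F (ι → F)}
    (hB : (pol Q₀).Nondegenerate) {δ θ : F} {Z : F[X] → Prop}
    (h : OForm (Fintype.card ι) (dsc Q₀) δ θ Z) : ∃ g : isometryGroup F Q₀,
      LinearMap.det (olin g) = δ ∧ wth Q₀ (olin g) = θ ∧ ∀ P, aeval (olin g) P = 0 ↔ Z P := by
  obtain ⟨V, i1, i2, i3, Q, g, h1, h2, h3, h4, rfl, rfl, h5⟩ := h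
  obtain ⟨e, he⟩ := exists_isometry_of_dsc hF h1 hB (by simp [h3]) h4
  obtain ⟨g', hg'⟩ := exists_olin_eq hB (f := e.conj g) (fun x => by
    obtain ⟨x, rfl⟩ := e.surjective x
    simp [LinearEquiv.conj_apply, he, h2])
  refine ⟨g', ?_, ?_, fun P => ?_⟩
  · rw [hg', LinearEquiv.conj_apply, LinearMap.comp_assoc, LinearMap.det_conj]
  · rw [hg']
    exact wth_equiv hF h1 h2 e he fun x => by simp [LinearEquiv.conj_apply]
  · rw [hg', ← h5]
    have := aeval_algHom_apply (e.conjAlgEquiv F) g P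
    exact this ▸ (map_eq_zero_iff _ (e.conjAlgEquiv F).injective)

theorem OForm.toOmega {ι : Type} [Fintype ι] [DecidableEq ι] {Q₀ : QuadraticForm F (ι → F)}
    (hB : (pol Q₀).Nondegenerate) (h5 : 5 ≤ Fintype.card ι) {Z : F[X] → Prop}
    (h : OForm (Fintype.card ι) (dsc Q₀) 1 1 Z) : ∃ g : Omega F Q₀,
      ∀ P, aeval (olin g.1) P = 0 ↔ Z P := by
  obtain ⟨g, h1, h2, h3⟩ := h.toMat hF hB
  exact ⟨⟨g, (mem_omega_iff_wth hF hB h5 g).mpr ⟨h1, h2⟩⟩, h3⟩

end oform

section upper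
variable {F : Type*} [Field F] [Fintype F] {ι : Type} [Fintype ι] [DecidableEq ι]
  {Q : QuadraticForm F (ι → F)} (K : Type*) [Field K] [Algebra F K] [IsAlgClosed K]

omit [Fintype F] in
theorem charpoly_olin {q : (ι → F) → F} (g : isometryGroup F q) :
    (olin g).charpoly = g.1.1.charpoly := Matrix.charpoly_toLin' _

omit [Fintype F] in
theorem aeval_olin {q : (ι → F) → F} (g : isometryGroup F q) (P : F[X]) :
    aeval (olin g) P = 0 ↔ aeval g.1.1 P = 0 := by
  have := aeval_algHom_apply (Matrix.toLinAlgEquiv' (R := F) (n := ι)) g.1.1 P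
  exact this ▸ (map_eq_zero_iff _ (Matrix.toLinAlgEquiv' (R := F) (n := ι)).injective)

omit [Fintype F] in
theorem o_pow_eq_one_iff {q : (ι → F) → F} (g : isometryGroup F q) (k : ℕ) :
    g ^ k = 1 ↔ g.1.1 ^ k = 1 := by
  rw [Subtype.ext_iff, Units.ext_iff]; simp

omit [Fintype F] in
theorem omega_pow_eq_one_iff {q : (ι → F) → F} (g : Omega F q) (k : ℕ) :
    g ^ k = 1 ↔ aeval (olin g.1) (X ^ k - C 1 : F[X]) = 0 := by
  rw [aeval_olin, aeval_X_pow_sub_C_eq_zero, one_smul, ← o_pow_eq_one_iff, Subtype.ext_iff]; simp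

theorem o_evs (hB : (pol Q).Nondegenerate) (g : isometryGroup F Q) :
    (g.1.1.charpoly.aroots K).map (fun y => y ^ Fintype.card F) = g.1.1.charpoly.aroots K ∧
    (g.1.1.charpoly.aroots K).map (·⁻¹) = g.1.1.charpoly.aroots K ∧
    (0 : K) ∉ g.1.1.charpoly.aroots K ∧ (g.1.1.charpoly.aroots K).card = Fintype.card ι :=
  ⟨aroots_frob _, isometry_evs_inv K Q hB.1 _ (olin_quad g),
    zero_notMem_evs K _ (Matrix.GeneralLinearGroup.det_ne_zero _), card_evs K _⟩

omit [Fintype F] in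
theorem omega_evs_prod {q : (ι → F) → F} (g : Omega F q) :
    (g.1.1.1.charpoly.aroots K).prod = 1 := by
  have := det_olin_of_mem_commutator g.2
  rw [olin, glin, LinearMap.det_toLin'] at this
  rw [prod_evs, this, map_one]

/-- The condition on eigenvalues given by the spinor norm. -/
def ThetaOk (q : ℕ) {K : Type*} [Field K] (R : Multiset K) : Prop :=
  (-1 : K) ∉ R → (2 ^ R.card * (R.map (fun y => 1 + y)).prod) ^ (q / 2) = 1

theorem omega_thetaOk (hF : Odd (Fintype.card F)) (hB : (pol Q).Nondegenerate)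
    (h5 : 5 ≤ Fintype.card ι) (g : Omega F Q) :
    ThetaOk (Fintype.card F) (g.1.1.1.charpoly.aroots K) := by
  intro h
  have h1 := ((mem_omega_iff_wth hF hB h5 g.1).mp g.2).2
  have e := algebraMap_eval_neg_one (K := K) _ g.1.1.1.charpoly_monic
  rw [← charpoly_olin, LinearMap.charpoly_natDegree, ← det_one_add, charpoly_olin] at e
  have h2 : LinearMap.det (1 + olin g.1) ≠ 0 := fun h0 => by
    rw [h0, map_zero, eq_comm, Multiset.prod_eq_zero_iff] at e
    obtain ⟨y, hy, h'⟩ := Multiset.mem_map.mp e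
    exact h (neg_eq_of_add_eq_zero_right h' ▸ hy)
  rw [wth_eq_of_one_add hF hB (olin_quad g.1) h2] at h1
  have := congrArg (algebraMap F K) h1
  rw [algebraMap_eu, map_mul, e, map_pow, map_ofNat, map_one] at this
  simpa [card_evs] using this

variable {K}

theorem ThetaOk.chunk (hF : Odd (Fintype.card F)) {R R' : Multiset K}
    (h : ThetaOk (Fintype.card F) R) {d N : ℕ} (hd : 0 < d) (hN : TorN (Fintype.card F) d N)
    {x : K} (hx : x ^ N = 1) (hx0 : x ≠ 0) (hx1 : x ≠ x⁻¹)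
    (hR : R = chunk (Fintype.card F) d x + R') (hR' : ∀ y ∈ R', y = 1) : x ^ (N / 2) = 1 := by
  have h2 : (2 : K) ≠ 0 := by
    rw [← map_ofNat (algebraMap F K) 2]; simpa using two_ne_zero_of_odd hF
  have hne : (-1 : K) ∉ Cfsg.Agent.HForm.chunk (Fintype.card F) d x := fun hy => by
    have := (orderOf_of_mem_chunk frob_injective hy 2).mp (by simp)
    exact hx1 (eq_inv_of_mul_eq_one_left (by rwa [sq] at this))
  have n2 : ((Cfsg.Agent.HForm.chunk (Fintype.card F) d x).map (fun y => 1 + y)).prod ≠ 0 := by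
    refine Multiset.prod_ne_zero fun h => ?_
    obtain ⟨y, hy, h⟩ := Multiset.mem_map.mp h
    exact hne (neg_eq_of_add_eq_zero_right h ▸ hy)
  have h3 := h (by
    rw [hR, Multiset.mem_add]
    rintro (h | h)
    · exact hne h
    · exact h2 (by linear_combination -hR' _ h))
  have h4 : (R'.map (fun y => 1 + y)).prod = 2 ^ R'.card := by
    rw [Multiset.map_congr rfl (g := fun _ => (2 : K)) (fun y hy => by rw [hR' y hy]; ring),
      Multiset.map_const', Multiset.prod_replicate]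
  have h5 : ((2 : K) ^ (d + R'.card)) ^ (2 * (Fintype.card F / 2)) = 1 := by
    have := congrArg (algebraMap F K) (eu_sq hF (pow_ne_zero (d + R'.card) (two_ne_zero_of_odd hF)))
    rwa [map_pow, algebraMap_eu, map_pow, map_ofNat, map_one, ← pow_mul, mul_comm] at this
  rw [hR, Multiset.card_add, card_chunk, Multiset.map_add, Multiset.prod_add, h4] at h3
  rw [← prod_one_add_chunk hF hd hN hx hx0 n2]
  generalize ((Cfsg.Agent.HForm.chunk (Fintype.card F) d x).map (fun y => 1 + y)).prod = P at h3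
  rw [show 2 ^ (2 * d + R'.card) * (P * 2 ^ R'.card) = (2 ^ (d + R'.card)) ^ 2 * P by ring,
    mul_pow, ← pow_mul, h5, one_mul] at h3
  exact h3

omit [IsAlgClosed K] in
theorem ThetaOk.cons_one (hF : Odd (Fintype.card F)) {R : Multiset K}
    (h : ThetaOk (Fintype.card F) R) : ThetaOk (Fintype.card F) (1 ::ₘ R) := by
  intro h1
  have h3 := h fun h => h1 (Multiset.mem_cons_of_mem h)
  have h5 : ((2 : K) ^ 2) ^ (Fintype.card F / 2) = 1 := by
    have := congrArg (algebraMap F K) (eu_sq hF (two_ne_zero_of_odd hF))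
    rwa [map_pow, algebraMap_eu, map_ofNat, map_one, ← pow_mul, mul_comm, pow_mul] at this
  rw [Multiset.card_cons, Multiset.map_cons, Multiset.prod_cons]
  generalize (R.map (fun y => 1 + y)).prod = P at h3
  rw [show 2 ^ (R.card + 1) * ((1 + 1) * P) = 2 ^ 2 * (2 ^ R.card * P) by ring,
    mul_pow, h5, h3, one_mul]

omit [Fintype F] in
theorem o_pow_eq_one [DecidableEq K] (h2 : (2 : F) ≠ 0) (hB : (pol Q).Nondegenerate) (p : ℕ)
    [Fact p.Prime] [CharP F p] (g : isometryGroup F Q) (o k : ℕ)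
    (h : ∀ x ∈ g.1.1.charpoly.aroots K, x ^ o = 1) (hk : p ^ k ∣ o)
    (hb : ∀ x, x ≠ -1 → (g.1.1.charpoly.aroots K).count x ≤ p ^ k)
    (he : Even ((g.1.1.charpoly.aroots K).count (-1)))
    (hb' : (g.1.1.charpoly.aroots K).count (-1) ≤ p ^ k + 1) : g ^ o = 1 := by
  rw [o_pow_eq_one_iff]
  by_cases h0 : (g.1.1.charpoly.aroots K).count (-1) = 0
  · refine pow_eq_one_of_evs (K := K) p _ o k h hk fun x => ?_
    by_cases hx : x = -1
    · rw [hx, h0]; exact Nat.zero_le _
    · exact hb x hx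
  have hχ0 := g.1.1.charpoly_monic.ne_zero
  have hc : (g.1.1.charpoly.aroots K).count (-1) = g.1.1.charpoly.rootMultiplicity (-1) := by
    rw [eq_rootMultiplicity_map (algebraMap F K).injective, map_neg, map_one, aroots, count_roots]
  obtain ⟨m, hm⟩ : ∃ m, (g.1.1.charpoly.aroots K).count (-1) = m + 1 := ⟨_, (Nat.succ_pred h0).symm⟩
  obtain ⟨f, hf, hf'⟩ := exists_eq_pow_rootMultiplicity_mul_and_not_dvd _ hχ0 (-1 : F)
  rw [← hc, hm] at hf
  have h3 := aeval_eq_zero_of_even h2 (pol Q) (fun x y => polar_symm _ _ _) hB.1 (olin g)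
    (polar_of_isometry (olin_quad g)) (c := -1) (by simp) (m := m)
    (by rw [hm, Nat.even_add_one, Nat.not_even_iff_odd] at he; exact he)
    (by rw [charpoly_olin]; exact hf) (fun h => hf' (dvd_iff_isRoot.mpr h))
  rw [aeval_olin] at h3
  have hf0 : f ≠ 0 := by rintro rfl; simp at hf'
  have hP0 : (X - C (-1 : F)) ^ m * f ≠ 0 := mul_ne_zero (pow_ne_zero _ (X_sub_C_ne_zero _)) hf0
  have hR : g.1.1.charpoly.aroots K = (-1) ::ₘ ((X - C (-1 : F)) ^ m * f).aroots K := by
    rw [hf, pow_succ', mul_assoc, aroots_mul (mul_ne_zero (X_sub_C_ne_zero _) hP0),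
      aroots_X_sub_C]
    simp
  have : CharP K p := charP_of_injective_algebraMap (algebraMap F K).injective p
  obtain ⟨M, rfl⟩ := hk
  have h4 := dvd_pow_of_count_le (K := K) _ (X ^ M - C 1) hP0 (p ^ k) (fun x hx => by
    have := h x (hR ▸ Multiset.mem_cons_of_mem hx)
    rw [mul_comm, pow_mul] at this
    simp [pow_eq_one_of_pow_char_pow p this]) (fun x => by
    by_cases hx : x = -1
    · subst hx
      rw [hR, Multiset.count_cons_self] at hb'
      omega
    · have := hb x hx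
      rwa [hR, Multiset.count_cons_of_ne hx] at this)
  rw [X_pow_sub_C_pow_char, one_pow] at h4
  obtain ⟨t, ht⟩ := h4
  have h5 := congrArg (aeval g.1.1) ht
  rw [map_mul, h3, zero_mul, aeval_X_pow_sub_C_eq_zero, one_smul] at h5
  rwa [mul_comm]

open Cfsg.Agent.Polar in
theorem omega_scalar_of_center (hB : (pol Q).Nondegenerate) (h5 : 5 ≤ Fintype.card ι)
    {z : Omega F Q} (hz : z ∈ Subgroup.center (Omega F Q)) :
    ∃ t : F, t ^ 2 = 1 ∧ olin z.1 = t • LinearMap.id := by
  have hP := ofQuad_nd hB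
  obtain ⟨e, he0, he⟩ := PQ.o_exists_sing (PQ.ofQuad Q) (by simp; omega)
  obtain ⟨f, h⟩ := hP.exists_hyp he he0
  obtain ⟨t, ht⟩ := PQ.exists_scalar_of_commute hP (hP.rich (by simp; omega)) h
    (z := oEquiv Q z.1) fun g hg => by
      obtain ⟨g', hg'⟩ := (omegaEquiv hB h5).surjective ⟨g, hg⟩
      have h1 : g = oEquiv Q g'.1 := by rw [← coe_omegaEquiv hB h5, hg']
      rw [h1, ← map_mul, ← map_mul]
      exact congrArg (fun x : Omega F Q => oEquiv Q x.1) (Subgroup.mem_center_iff.mp hz g').symm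
  have h1 : ∀ x, olin z.1 x = t • x := ht
  refine ⟨t, ?_, LinearMap.ext h1⟩
  have h2 := h.o_Q_combo 1 1
  have h3 := olin_quad z.1 ((1 : F) • e + (1 : F) • f)
  rw [h1, quad_smul] at h3
  change Q _ = _ at h2
  rwa [h2, mul_one, mul_one] at h3

theorem orderOf_mk_omega (hB : (pol Q).Nondegenerate) (h5 : 5 ≤ Fintype.card ι)
    (hodd : Odd (Fintype.card ι)) (g : Omega F Q) :
    orderOf (QuotientGroup.mk g : POmega F Q) = orderOf g := by
  refine orderOf_injective (QuotientGroup.mk' _) ?_ g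
  rw [injective_iff_map_eq_one]
  intro z hz
  obtain ⟨t, ht, h⟩ := omega_scalar_of_center hB h5 ((QuotientGroup.eq_one_iff z).mp hz)
  have h1 := det_olin_of_mem_commutator z.2
  obtain ⟨k, hk⟩ := hodd
  rw [h, LinearMap.det_smul, LinearMap.det_id, finrank_pi, hk, pow_succ, pow_mul, ht, one_pow,
    one_mul, mul_one] at h1
  rw [h1, one_smul, ← olin_one] at h
  exact Subtype.ext (olin_injective h)

end upper

section real
variable {F : Type u} [Field F] [Fintype F] (hF : Odd (Fintype.card F))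
include hF

omit hF [Field F] [Fintype F] in
theorem card_odd_index (m : ℕ) : Fintype.card (Unit ⊕ (Fin m ⊕ Fin m)) = 2 * m + 1 := by
  simp; ring

/-- Completing an orthogonal block by a unipotent Jordan block. -/
theorem OForm.toPOmegaOdd (p : ℕ) [Fact p.Prime] [CharP F p] {n e j m : ℕ} {D : F}
    {Z : F[X] → Prop} (h : OForm n D 1 1 Z) (hm : 2 ≤ m) (hn : n + 2 * e = 2 * m)
    (h1 : 2 * e + 1 ≤ p ^ j) (h3 : j = 0 ∨ p ^ (j - 1) < 2 * e + 1) :
    ∃ x : POmega F (quadFormOdd m F), ∀ k, orderOf x ∣ k ↔ Z (X ^ k - C 1) ∧ p ^ j ∣ k := by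
  have h2 := two_ne_zero_of_odd hF
  have hB := QOdd_nondegenerate m h2
  have hc := card_odd_index m
  obtain ⟨g, hg⟩ := ((h.sum hF (oform_jordan hF e (D := D * dsc (QOdd m F)) (by
    rcases h.sign hF with h | h <;> rcases dsc_sign hF hB with h' | h' <;> simp [h, h']))).congr
    (n' := Fintype.card (Unit ⊕ (Fin m ⊕ Fin m))) (by omega) (D' := dsc (QOdd m F)) (by
      rcases h.sign hF with h | h <;> simp [h]) (one_mul _) (one_mul _)
    (fun _ => Iff.rfl)).toOmega hF hB (by omega)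
  refine ⟨QuotientGroup.mk g, fun k => ?_⟩
  refine (orderOf_mk_omega hB (by omega) (hc ▸ odd_two_mul_add_one m) g).symm ▸ ?_
  rw [orderOf_dvd_iff_pow_eq_one, omega_pow_eq_one_iff, hg,
    jordan_dvd_iff p 1 one_ne_zero _ j (by omega) h1 h3]
  simp

theorem oform_zero : OForm 0 (1 : F) 1 1 (fun _ => True) := by
  obtain ⟨D₀, hD, h⟩ := (Real.zero (τ := RingHom.id F) (ε := 1) (A := False)).oform hF
  obtain ⟨θ, h, h1, h2⟩ := h 1 one_ne_zero
  have e1 := h1 (by simp)
  have e2 := h2 (by simp)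
  simp only [natDegree_one, pow_zero, eval_one, mul_one, eu_one, one_mul, coeff_one_zero]
    at h e1 e2
  rwa [← e1, e2] at h

theorem oform_tor {K : Type*} [Field K] [Algebra F K] [IsAlgClosed K] {d N : ℕ} (hd : 0 < d)
    (hN : TorN (Fintype.card F) d N) {x : K} (hx : x ^ N = 1) (hx0 : x ≠ 0)
    (hx1 : d = 1 ∨ x ≠ x⁻¹) : ∃ θ : F, algebraMap F K θ = x ^ (N / 2) ∧
      OForm (2 * d) ((-1) ^ (N / 2)) 1 θ (fun P => aeval x P = 0 ∧ aeval x⁻¹ P = 0) := by
  by_cases h : x = x⁻¹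
  swap
  · exact oform_chunk hF hd hN hx hx0 h
  obtain rfl := hx1.resolve_right (not_not.mpr h)
  rcases eq_one_or_neg_one_of_eq_inv hx0 h with rfl | rfl
  · refine ⟨1, by simp, ((oform_jordan hF 0 (neg_one_pow_eq_or F (N / 2))).sum hF
      (oform_jordan hF 0 (Or.inl rfl))).congr rfl (mul_one _) (mul_one _) (mul_one _) fun P => ?_⟩
    rw [inv_one, ← map_one (algebraMap F K), aeval_algebraMap_eq_zero_iff']
    simp only [mul_zero, zero_add, pow_one, dvd_iff_isRoot, IsRoot]
  · refine ⟨(-1) ^ (N / 2), by simp, (oform_neg hF (neg_one_pow_eq_or F (N / 2))).congr rfl rfl rfl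
      rfl fun P => ?_⟩
    rw [← h, ← map_one (algebraMap F K), ← map_neg, aeval_algebraMap_eq_zero_iff', and_self]

omit hF in
theorem TorN.not_dvd (p : ℕ) [hp : Fact p.Prime] [CharP F p] {d N : ℕ} (hd : 0 < d)
    (hN : TorN (Fintype.card F) d N) : ¬ p ∣ N := by
  obtain ⟨a, -, ha⟩ := FiniteField.card F p
  have h1 : p ∣ Fintype.card F ^ d :=
    (ha ▸ dvd_pow_self p a.ne_zero : p ∣ Fintype.card F).trans (dvd_pow_self _ hd.ne')
  intro h
  rcases hN with hN | hN
  · exact hp.out.one_lt.ne' (Nat.dvd_one.mp ((Nat.dvd_add_right h).mp (hN ▸ h1)))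
  · exact hp.out.one_lt.ne' (Nat.dvd_one.mp ((Nat.dvd_add_right h1).mp (hN ▸ h)))

/-- A torus block containing an element of order `t`. -/
theorem blk_tor {d N t : ℕ} (hd : 0 < d) (hN : TorN (Fintype.card F) d N) (ht : t ∣ N)
    (h2 : d = 1 ∨ 2 < t) : ∃ (θ : F) (Z : F[X] → Prop), OForm (2 * d) ((-1) ^ (N / 2)) 1 θ Z ∧
      (∀ k, Z (X ^ k - C 1) ↔ t ∣ k) ∧ (t ∣ N / 2 → θ = 1) ∧ (t = N → θ = -1) := by
  obtain ⟨p, hp⟩ := CharP.exists F
  have : Fact p.Prime := ⟨CharP.char_is_prime F p⟩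
  have : CharP (AlgebraicClosure F) p := inferInstance
  obtain ⟨x, hx0, hx⟩ := exists_orderOf_eq (AlgebraicClosure F) t (by
    rw [Ne, CharP.cast_eq_zero_iff _ p]; exact fun h => hN.not_dvd p hd (h.trans ht))
  have hxN : x ^ N = 1 := orderOf_dvd_iff_pow_eq_one.mp (hx ▸ ht)
  obtain ⟨θ, hθ, h⟩ := oform_tor hF hd hN hxN hx0 (h2.imp id fun h2 h => by
    have : x ^ 2 = 1 := by rw [sq]; nth_rewrite 2 [h]; exact mul_inv_cancel₀ hx0
    rw [← orderOf_dvd_iff_pow_eq_one, hx] at this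
    exact absurd (Nat.le_of_dvd two_pos this) (by omega))
  refine ⟨θ, _, h, fun k => ?_, fun h => ?_, fun h => ?_⟩
  · simp [sub_eq_zero, ← hx, orderOf_dvd_iff_pow_eq_one]
  · apply (algebraMap F (AlgebraicClosure F)).injective
    rw [hθ, map_one, ← orderOf_dvd_iff_pow_eq_one, hx]; exact h
  · apply (algebraMap F (AlgebraicClosure F)).injective
    have h3 := hN.two_mul hF
    have h4 : (x ^ (N / 2)) ^ 2 = 1 := by rw [← pow_mul, mul_comm, h3, hxN]
    rw [hθ, map_neg, map_one]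
    refine (sq_eq_one_iff.mp h4).resolve_left fun h5 => ?_
    rw [← orderOf_dvd_iff_pow_eq_one, hx, h] at h5
    have h6 : N ≠ 0 := fun h0 => hN.not_dvd p hd (h0 ▸ dvd_zero p)
    have := Nat.le_of_dvd (by omega) h5
    omega

end real

section decomp
variable {K : Type*} [Field K] [DecidableEq K]

theorem sign_decomp (h2 : (2 : K) ≠ 0) {q : ℕ} (hq : Function.Injective (fun y : K => y ^ q))
    {R : Multiset K} (hR : R.map (fun y => y ^ q) = R) (hR' : R.map (·⁻¹) = R) (h0 : (0 : K) ∉ R)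
    (hprod : R.prod = 1) :
    ∃ C : Multiset K, R = C + Multiset.replicate (R.count 1) 1 +
      Multiset.replicate (R.count (-1)) (-1) ∧ C.map (fun y => y ^ q) = C ∧ C.map (·⁻¹) = C ∧
      (∀ x ∈ C, x ≠ x⁻¹) ∧ (∀ x, x ≠ x⁻¹ → C.count x = R.count x) ∧ Even C.card ∧
      Even (R.count (-1)) := by
  have hne : (-1 : K) ≠ 1 := fun h => h2 (by linear_combination -h)
  have e : R = R.filter (fun x => x ≠ x⁻¹) + Multiset.replicate (R.count 1) 1 +
      Multiset.replicate (R.count (-1)) (-1) := by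
    ext x
    simp only [Multiset.count_add, Multiset.count_filter, Multiset.count_replicate]
    by_cases hx0 : x = 0
    · subst hx0; simp [Multiset.count_eq_zero_of_notMem h0]
    by_cases hx : x = x⁻¹
    · rcases eq_one_or_neg_one_of_eq_inv hx0 hx with rfl | rfl
      · simp [hne]
      · simp [hne.symm]
    · have h1 : (1 : K) ≠ x := by rintro rfl; simp at hx
      have h3 : (-1 : K) ≠ x := by rintro rfl; simp at hx
      simp [hx, h1, h3]
  have hinv := map_filter_eq hR' (fun x => x ≠ x⁻¹) (fun x => by rw [inv_inv]; exact ne_comm)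
  have hC : ∀ x ∈ R.filter (fun x => x ≠ x⁻¹), x ≠ x⁻¹ := fun x hx => (Multiset.mem_filter.mp hx).2
  obtain ⟨h3, h4⟩ := prod_eq_one_of_inv _ _ rfl hinv hC
  refine ⟨_, e, map_filter_eq hR _ (fun x => by rw [← inv_pow]; exact hq.ne_iff), hinv, hC,
    fun x hx => Multiset.count_filter_of_pos hx, h4, ?_⟩
  rw [e, Multiset.prod_add, Multiset.prod_add, h3, Multiset.prod_replicate,
    Multiset.prod_replicate, one_pow, one_mul, one_mul] at hprod
  exact (neg_one_pow_eq_one_iff_even hne).mp hprod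

theorem chunk_split {q : ℕ} (hq0 : 0 < q) (hq : Function.Injective (fun y : K => y ^ q))
    {C : Multiset K} (hR : C.map (fun y => y ^ q) = C) (hR' : C.map (·⁻¹) = C)
    (hne : ∀ x ∈ C, x ≠ x⁻¹) {x : K} (hx : x ∈ C) : ∃ d N C', 0 < d ∧ TorN q d N ∧ x ^ N = 1 ∧
      (∀ e, 0 < e → e < d → ¬ PM q e x) ∧ (chunk q d x).Nodup ∧
      C.count x * (2 * d) ≤ C.card ∧ C = chunk q d x + C' ∧
      C'.map (fun y => y ^ q) = C' ∧ C'.map (·⁻¹) = C' ∧ (∀ x ∈ C', x ≠ x⁻¹) := by
  obtain ⟨d, hd, hPM, hmin, hnd, hle⟩ := exists_chunk hq hR hR' hx (hne x hx)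
  obtain ⟨N, hN, hxN⟩ := hPM.torN (fun h => hne x hx (by simp [h])) hq0
  have h1 : chunk q d x ≤ C := le_trans (by
    conv_lhs => rw [← one_nsmul (chunk q d x)]
    exact nsmul_le_nsmul_left (Multiset.zero_le _) (Multiset.count_pos.mpr hx)) hle
  obtain ⟨C', hC'⟩ := Multiset.le_iff_exists_add.mp h1
  refine ⟨d, N, C', hd, hN, hxN, hmin, hnd, ?_, hC', map_eq_of_add (hC' ▸ hR) (chunk_frob hPM),
    map_eq_of_add (hC' ▸ hR') (chunk_inv _ _ _),
    fun y hy => hne y (hC' ▸ Multiset.mem_add.mpr (Or.inr hy))⟩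
  simpa [card_chunk] using Multiset.card_le_card hle

end decomp

end Cfsg.Agent.HForm
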