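import Cfsg.Agent.HForm.Eta

/-!
Prime graph of `PSp`.
-/

set_option autoImplicit false

namespace Cfsg.Agent.HForm

open Polynomial Module Matrix

universe u
variable {F : Type u} [Field F] [Fintype F]

theorem sp_evs_facts {n : ℕ} (g : Matrix.symplecticGroup (Fin n) F) :
    let R := (g : Matrix (Fin n ⊕ Fin n) (Fin n ⊕ Fin n) F).charpoly.aroots (AlgebraicClosure F)
    R.map (fun y => y ^ Fintype.card F) = R ∧ R.map (·⁻¹) = R ∧ (0 : AlgebraicClosure F) ∉ R ∧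
      R.card = 2 * n :=
  ⟨aroots_frob _, sp_evs_inv _ g, zero_notMem_evs _ _
    (by rw [SymplecticGroup.det_eq_one g.2]; exact one_ne_zero), by rw [card_evs]; simp [two_mul]⟩

theorem psp_exists_ev {n : ℕ} (p : ℕ) [Fact p.Prime] [CharP F p]
    (g : Matrix.symplecticGroup (Fin n) F) {r : ℕ} (hr : r.Prime) (hr2 : r ≠ 2) (hrp : r ≠ p)
    (h : r ∣ orderOf (QuotientGroup.mk g : PSp n F)) :
    ∃ x ∈ (g : Matrix (Fin n ⊕ Fin n) (Fin n ⊕ Fin n) F).charpoly.aroots (AlgebraicClosure F),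
      r ∣ orderOf x :=
  exists_ev_dvd_order _ p _ (orderOf_pos g) (by
    rw [← SubmonoidClass.coe_pow, pow_orderOf_eq_one]; rfl) hr hrp
    (fun k hk => h.trans (psp_dvd_iff g k hk))

theorem psp_eta_le {n : ℕ} (p : ℕ) [Fact p.Prime] [CharP F p] {r η : ℕ} (hr : r.Prime)
    (hr2 : r ≠ 2) (hrp : r ≠ p) (hη : IsEta (orderOf ((Fintype.card F : ℕ) : ZMod r)) η)
    (x : PSp n F) (h : r ∣ orderOf x) : η ≤ n := by
  classical
  obtain ⟨g, rfl⟩ := QuotientGroup.mk_surjective x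
  obtain ⟨y, hy, hry⟩ := psp_exists_ev p g hr hr2 hrp h
  obtain ⟨h1, h2, h3, h4⟩ := sp_evs_facts g
  exact eta_le Fintype.card_pos frob_injective h1 h2 h3 hr hr2 hη hy hry (by omega)

theorem sign_pow_eq_one {K : Type*} [Field K] [Algebra F K] {x : K} (hx : Odd (orderOf x)) {o : ℕ}
    {c : F} (hc : c = 1 ∨ c = -1) (h : x ^ o = algebraMap F K c) : x ^ o = 1 := by
  refine pow_eq_one_of_odd hx (pow_orderOf_eq_one x) ?_
  rw [mul_comm, pow_mul, h]
  rcases hc with rfl | rfl <;> simp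

theorem psp_adj_iff {n : ℕ} (p : ℕ) [Fact p.Prime] [CharP F p] {r s ηk ηl : ℕ} (hr : r.Prime)
    (hs : s.Prime) (hr2 : r ≠ 2) (hs2 : s ≠ 2) (hrp : r ≠ p) (hsp : s ≠ p) (hrs : r ≠ s)
    (hk : IsEta (orderOf ((Fintype.card F : ℕ) : ZMod r)) ηk)
    (hl : IsEta (orderOf ((Fintype.card F : ℕ) : ZMod s)) ηl) (hkl : ηk ≤ ηl) :
    r * s ∈ Set.range (orderOf : PSp n F → ℕ) ↔ ηl ≤ n ∧ (ηk + ηl ≤ n ∨ ∃ t, Odd t ∧
      orderOf ((Fintype.card F : ℕ) : ZMod s) = orderOf ((Fintype.card F : ℕ) : ZMod r) * t) := by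
  classical
  have hq0 : 0 < Fintype.card F := Fintype.card_pos
  have hrq := not_dvd_card (F := F) p hr hrp
  have hsq := not_dvd_card (F := F) p hs hsp
  have hk0 := hk.pos (orderOf_pos_of_not_dvd hr hrq)
  have hl0 := hl.pos (orderOf_pos_of_not_dvd hs hsq)
  have hcop : Nat.Coprime r s := (Nat.coprime_primes hr hs).mpr hrs
  constructor
  · rintro ⟨x, hx⟩
    refine ⟨psp_eta_le p hs hs2 hsp hl x (hx ▸ Dvd.intro_left r rfl), ?_⟩
    obtain ⟨g, rfl⟩ := QuotientGroup.mk_surjective x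
    obtain ⟨y, hy, hry⟩ := psp_exists_ev p g hr hr2 hrp (hx ▸ Dvd.intro s rfl)
    obtain ⟨z, hz, hsz⟩ := psp_exists_ev p g hs hs2 hsp (hx ▸ Dvd.intro_left r rfl)
    obtain ⟨h1, h2, h3, h4⟩ := sp_evs_facts g
    exact eta_two hq0 frob_injective h1 h2 h3 hr hr2 hs hs2 hk hl hkl hy hry hz hsz (by omega)
  · rintro ⟨hln, h | ⟨t, ht, h⟩⟩
    · obtain ⟨x, hx0, hx, hPM⟩ := exists_torus_elt (F := F) (K := AlgebraicClosure F) hk0
        (hk.dvd_pm hq0 hr hr2 hrq)
      obtain ⟨y, hy0, hy, hPM'⟩ := exists_torus_elt (F := F) (K := AlgebraicClosure F) hl0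
        (hl.dvd_pm hq0 hs hs2 hsq)
      obtain ⟨δ1, h1⟩ := formP_sp_torus hk0 x hx0 hPM
      obtain ⟨δ2, h2⟩ := formP_sp_torus hl0 y hy0 hPM'
      obtain ⟨w, hw⟩ := (((h1.sum h2).sum (formP_sp_scalar (F := F) 1 (by simp)
        (n - ηk - ηl))).congr (n' := 2 * n) (by omega) rfl (fun _ _ => Iff.rfl)).toPSp
      refine mem_range_orderOf_of_dvd ⟨w, rfl⟩ (hcop.mul_dvd_of_dvd_of_dvd ?_ ?_)
      · rw [← hx, orderOf_dvd_iff_pow_eq_one]
        have hxo : Odd (orderOf x) := hx ▸ hr.odd_of_ne_two hr2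
        rcases (hw _).mp dvd_rfl with h | h
        · exact sign_pow_eq_one hxo (Or.inl rfl) h.1.1.1
        · exact sign_pow_eq_one hxo (Or.inr rfl) h.1.1.1
      · rw [← hy, orderOf_dvd_iff_pow_eq_one]
        have hyo : Odd (orderOf y) := hy ▸ hs.odd_of_ne_two hs2
        rcases (hw _).mp dvd_rfl with h | h
        · exact sign_pow_eq_one hyo (Or.inl rfl) h.1.2.1
        · exact sign_pow_eq_one hyo (Or.inr rfl) h.1.2.1
    · obtain ⟨x, hx0, hx, hPM⟩ := exists_torus_elt (F := F) (K := AlgebraicClosure F) hl0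
        (dvd_pm_of_odd_ratio hq0 hr hr2 hs hs2 hrs hsq hl ht h)
      obtain ⟨δ1, h1⟩ := formP_sp_torus hl0 x hx0 hPM
      obtain ⟨w, hw⟩ := ((h1.sum (formP_sp_scalar (F := F) 1 (by simp)
        (n - ηl))).congr (n' := 2 * n) (by omega) rfl (fun _ _ => Iff.rfl)).toPSp
      refine mem_range_orderOf_of_dvd ⟨w, rfl⟩ ?_
      rw [← hx, orderOf_dvd_iff_pow_eq_one]
      have hxo : Odd (orderOf x) := hx ▸ (hr.odd_of_ne_two hr2).mul (hs.odd_of_ne_two hs2)
      rcases (hw _).mp dvd_rfl with h | h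
      · exact sign_pow_eq_one hxo (Or.inl rfl) h.1.1
      · exact sign_pow_eq_one hxo (Or.inr rfl) h.1.1

theorem psp_adj_char_iff {n : ℕ} (p : ℕ) [hp : Fact p.Prime] [CharP F p] {r η : ℕ} (hr : r.Prime)
    (hr2 : r ≠ 2) (hrp : r ≠ p) (hk : IsEta (orderOf ((Fintype.card F : ℕ) : ZMod r)) η) :
    r * p ∈ Set.range (orderOf : PSp n F → ℕ) ↔ η < n := by
  classical
  have hq0 : 0 < Fintype.card F := Fintype.card_pos
  have hrq := not_dvd_card (F := F) p hr hrp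
  have hk0 := hk.pos (orderOf_pos_of_not_dvd hr hrq)
  have hcop : Nat.Coprime r p := (Nat.coprime_primes hr hp.out).mpr hrp
  constructor
  · rintro ⟨x, hx⟩
    by_contra hn
    push Not at hn
    obtain ⟨g, rfl, hg⟩ := psp_lift p x (by
      rw [hx]
      by_cases h : p = 2
      · exact Or.inr h
      · exact Or.inl ((hr.odd_of_ne_two hr2).mul (hp.out.odd_of_ne_two h)))
    obtain ⟨y, hy, hry⟩ := psp_exists_ev p g hr hr2 hrp (hx ▸ Dvd.intro p rfl)
    obtain ⟨h1, h2, h3, h4⟩ := sp_evs_facts g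
    obtain ⟨R', -, -, -, -, -, hnd⟩ := eta_top hq0 frob_injective h1 h2 h3 hr hr2 hk hy hry
      (by omega : _ ≤ 2 * n + 1) hn
    have : CharP (AlgebraicClosure F) p :=
      charP_of_injective_algebraMap (algebraMap F _).injective p
    have h5 := psp_dvd_iff g r (pow_eq_one_of_evs (K := AlgebraicClosure F) p _ _ 0 (fun z hz => by
      apply pow_eq_one_of_pow_char_pow p (k := 1)
      rw [pow_one, ← pow_mul, ← hx]
      simpa using evs_pow_eq _ _ _ 1 (by simpa using hg) z hz) (by simp)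
      (by simpa using Multiset.nodup_iff_count_le_one.mp hnd))
    rw [hx] at h5
    have := Nat.le_of_dvd hr.pos h5
    have := hp.out.two_le
    have := hr.pos
    nlinarith
  · intro hn
    obtain ⟨x, hx0, hx, hPM⟩ := exists_torus_elt (F := F) (K := AlgebraicClosure F) hk0
      (hk.dvd_pm hq0 hr hr2 hrq)
    obtain ⟨δ1, h1⟩ := formP_sp_torus hk0 x hx0 hPM
    have h2 := formP_sp_jordan (F := F) p 1 (by simp) 1 1 one_pos (by simpa using hp.out.two_le)
      (by simp)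
    obtain ⟨w, hw⟩ := (((h1.sum h2).sum (formP_sp_scalar (F := F) 1 (by simp)
      (n - η - 1))).congr (n' := 2 * n) (by omega) rfl (fun _ _ => Iff.rfl)).toPSp
    refine mem_range_orderOf_of_dvd ⟨w, rfl⟩ (hcop.mul_dvd_of_dvd_of_dvd ?_ ?_)
    · rw [← hx, orderOf_dvd_iff_pow_eq_one]
      have hxo : Odd (orderOf x) := hx ▸ hr.odd_of_ne_two hr2
      rcases (hw _).mp dvd_rfl with h | h
      · exact sign_pow_eq_one hxo (Or.inl rfl) h.1.1.1
      · exact sign_pow_eq_one hxo (Or.inr rfl) h.1.1.1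
    · rcases (hw _).mp dvd_rfl with h | h
      · simpa using h.1.2.2
      · simpa using h.1.2.2

end Cfsg.Agent.HForm
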