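import Cfsg.Agent.HForm.Eta
import Cfsg.Agent.Forms.OmegaRank

/-! The spinor norm through the Wall form. -/

namespace Cfsg.Agent.HForm

open Module Matrix Cfsg.Agent.Forms

variable {F : Type*} [Field F] {V : Type*} [AddCommGroup V] [Module F V]
  {Q : QuadraticForm F V} {g : V →ₗ[F] V}

/-- Gram matrix of the Wall form -/
def wallM (Q : QuadraticForm F V) (g : V →ₗ[F] V) {κ : Type*} (u : κ → V) : Matrix κ κ F :=
  Matrix.of fun i j => pol Q (u i) (u j - g (u j))

theorem wallM_apply {κ : Type*} (u : κ → V) (i j : κ) :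
    wallM Q g u i j = pol Q (u i) (u j - g (u j)) := rfl

/-- `d` is a discriminant of the Wall form -/
def Wall (Q : QuadraticForm F V) (g : V →ₗ[F] V) (d : F) : Prop :=
  d ≠ 0 ∧ ∃ u : Fin (rk g) → V, (wallM Q g u).det = d

theorem wall_of_family {κ : Type*} [Fintype κ] [DecidableEq κ] (u : κ → V)
    (hκ : Fintype.card κ = rk g) (h : (wallM Q g u).det ≠ 0) : Wall Q g (wallM Q g u).det := by
  let e : Fin (rk g) ≃ κ := (Fintype.equivFinOfCardEq hκ).symm
  exact ⟨h, u ∘ e, det_submatrix_equiv_self e (wallM Q g u)⟩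

theorem wall_left_fix (hg : ∀ x, Q (g x) = Q x) {x : V} (hx : g x = x) (y : V) :
    pol Q x (y - g y) = 0 := by
  rw [map_sub]
  conv_lhs => enter [2]; rw [← hx, polar_of_isometry hg]
  exact sub_self _

variable [FiniteDimensional F V]

theorem wall_span {κ : Type*} [Fintype κ] [DecidableEq κ] {u : κ → V}
    (hκ : Fintype.card κ = rk g) (h : (wallM Q g u).det ≠ 0) (y : V) :
    ∃ c : κ → F, g (y - ∑ i, c i • u i) = y - ∑ i, c i • u i := by
  let w : κ → comS g := fun j => ⟨u j - g (u j), mem_comS.mpr ⟨-u j, by simp; abel⟩⟩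
  have hli : LinearIndependent F w := by
    rw [Fintype.linearIndependent_iff]
    intro c hc
    have h1 : wallM Q g u *ᵥ c = 0 := by
      funext i
      have := congrArg (fun z : comS g => pol Q (u i) z) hc
      simp only [w, Submodule.coe_sum, Submodule.coe_smul, map_sum, map_smul, smul_eq_mul,
        Submodule.coe_zero, map_zero] at this
      simp only [mulVec, dotProduct, wallM_apply, Pi.zero_apply, mul_comm _ (c _)]
      exact this
    exact congrFun (eq_zero_of_mulVec_eq_zero h h1)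
  have hsp := hli.span_eq_top_of_card_eq_finrank' hκ
  have hy : (⟨y - g y, mem_comS.mpr ⟨-y, by simp; abel⟩⟩ : comS g) ∈
    Submodule.span F (Set.range w) := hsp ▸ Submodule.mem_top
  obtain ⟨c, hc⟩ := (Submodule.mem_span_range_iff_exists_fun F).mp hy
  refine ⟨c, ?_⟩
  have := congrArg Subtype.val hc
  simp only [w, Submodule.coe_sum, Submodule.coe_smul, smul_sub, Finset.sum_sub_distrib] at this
  simp only [map_sub, map_sum, map_smul]
  linear_combination (norm := module) this

theorem Wall.unique (hg : ∀ x, Q (g x) = Q x) {d d' : F} (h : Wall Q g d) (h' : Wall Q g d') :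
    ∃ c, d' = c ^ 2 * d := by
  obtain ⟨h0, u, rfl⟩ := h
  obtain ⟨-, u', rfl⟩ := h'
  choose c hc using fun i => wall_span (by simp) h0 (u' i)
  refine ⟨(Matrix.of c).det, ?_⟩
  have : wallM Q g u' = Matrix.of c * wallM Q g u * (Matrix.of c)ᵀ := by
    ext i j
    have e1 : u' j - g (u' j) = ∑ b, c j b • (u b - g (u b)) := by
      have := hc j
      simp only [map_sub, map_sum, map_smul] at this
      simp only [smul_sub, Finset.sum_sub_distrib]
      linear_combination (norm := module) -this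
    have e2 := wall_left_fix hg (hc i) (u' j)
    rw [LinearMap.map_sub (pol Q), LinearMap.sub_apply, sub_eq_zero] at e2
    rw [wallM_apply, e2, e1]
    simp only [map_sum, map_smul, LinearMap.sum_apply, LinearMap.smul_apply, smul_eq_mul, mul_apply,
      of_apply, transpose_apply, wallM_apply, Finset.sum_mul, Finset.mul_sum]
    refine Finset.sum_congr rfl fun b _ => Finset.sum_congr rfl fun a _ => by ring
  rw [this, det_mul, det_mul, det_transpose]; ring

theorem exists_wall (hB : (pol Q).Nondegenerate) (hg : ∀ x, Q (g x) = Q x) : ∃ d, Wall Q g d := by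
  let b : Basis (Fin (rk g)) F (comS g) := Module.finBasisOfFinrankEq F (comS g) rfl
  choose u hu using fun j => mem_comS.mp (b j).2
  refine ⟨_, ?_, u, rfl⟩
  intro h0
  obtain ⟨c, hc0, hc⟩ := exists_mulVec_eq_zero_iff.mpr h0
  apply hc0
  obtain ⟨w, hw⟩ : ∃ w : comS g, w = ∑ j, c j • b j := ⟨_, rfl⟩
  have hwu : ∀ i, pol Q (u i) w = 0 := by
    intro i
    have := congrFun hc i
    simp only [mulVec, dotProduct, wallM_apply, Pi.zero_apply] at this
    simp only [hw, Submodule.coe_sum, Submodule.coe_smul, map_sum, map_smul, smul_eq_mul, ← hu]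
    rw [← neg_eq_zero, ← Finset.sum_neg_distrib, ← this]
    refine Finset.sum_congr rfl fun j _ => ?_
    rw [map_sub, map_sub]; ring
  have hw0 : (w : V) = 0 := by
    refine hB.2 _ fun y => ?_
    obtain ⟨z, hz⟩ : ∃ z : comS g, z = ⟨g y - y, mem_comS.mpr ⟨y, rfl⟩⟩ := ⟨_, rfl⟩
    have h1 : g (y - ∑ i, b.repr z i • u i) = y - ∑ i, b.repr z i • u i := by
      have := congrArg Subtype.val (b.sum_repr z)
      simp only [Submodule.coe_sum, Submodule.coe_smul, ← hu, smul_sub,
        Finset.sum_sub_distrib] at this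
      rw [hz] at this ⊢
      simp only [map_sub, map_sum, map_smul]
      linear_combination (norm := module) -this
    obtain ⟨t, ht⟩ := mem_comS.mp w.2
    have h2 := wall_left_fix hg h1 (-t)
    rw [map_neg, neg_sub_neg, ht] at h2
    simpa [hwu] using h2
  have : ∑ j, c j • b j = 0 := hw ▸ Subtype.ext hw0
  funext j
  exact Fintype.linearIndependent_iff.mp b.linearIndependent c this j

theorem Wall.refl_up (hB : (pol Q).Nondegenerate) (hg : ∀ x, Q (g x) = Q x) {v : V}
    (hv : Q v ≠ 0) (h : v ∉ comS g) {d : F} (hd : Wall Q g d) :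
    ∃ c, c ≠ 0 ∧ Wall Q (refl Q v ∘ₗ g) (d * (c ^ 2 / Q v)) := by
  obtain ⟨h0, u, rfl⟩ := hd
  rw [← fixS_le_ker_iff hB hg, SetLike.not_le_iff_exists] at h
  obtain ⟨w, hw, hwv⟩ := h
  rw [mem_fixS] at hw
  replace hwv : pol Q w v ≠ 0 := hwv
  let u' : Fin (rk g) → V := fun i => u i - (pol Q (u i) v / pol Q w v) • w
  have hu' : ∀ i, pol Q (u' i) v = 0 := fun i => by
    simp only [u', map_sub, map_smul, LinearMap.sub_apply, LinearMap.smul_apply, smul_eq_mul]
    field_simp; ring
  have hβ : ∀ x y, pol Q x (y - (refl Q v ∘ₗ g) y) =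
      pol Q x (y - g y) + pol Q x v * pol Q (g y) v / Q v := fun x y => by
    simp only [LinearMap.comp_apply, refl_apply, map_sub, map_smul, smul_eq_mul]; ring
  have hM : wallM Q (refl Q v ∘ₗ g) (Sum.elim u' (fun _ : Unit => w)) =
      fromBlocks (wallM Q g u) 0 (of fun _ j => pol Q w v * pol Q (g (u' j)) v / Q v)
        (of fun _ _ => pol Q w v ^ 2 / Q v) := by
    ext (i | i) (j | j) <;> simp only [wallM_apply, Sum.elim_inl, Sum.elim_inr, hβ, hu',
      fromBlocks_apply₁₁, fromBlocks_apply₁₂, fromBlocks_apply₂₁, fromBlocks_apply₂₂, of_apply,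
      Matrix.zero_apply, wall_left_fix hg hw, hw, sub_self, map_zero]
    · have e : u' j - g (u' j) = u j - g (u j) := by
        simp only [u', map_sub, map_smul, hw]; abel
      rw [e]
      simp only [u', LinearMap.map_sub (pol Q), map_smul, LinearMap.sub_apply,
        LinearMap.smul_apply, wall_left_fix hg hw]
      simp
    · simp
    · simp
    · ring
  have hdet : (wallM Q (refl Q v ∘ₗ g) (Sum.elim u' (fun _ : Unit => w))).det =
      (wallM Q g u).det * (pol Q w v ^ 2 / Q v) := by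
    rw [hM, det_fromBlocks_zero₁₂]; simp
  refine ⟨_, hwv, hdet ▸ wall_of_family _ ?_ ?_⟩
  · rw [rk_refl_comp_of_notMem hB hg hv]
    · simp
    · rw [← fixS_le_ker_iff hB hg, SetLike.not_le_iff_exists]
      exact ⟨w, mem_fixS.mpr hw, hwv⟩
  · rw [hdet]; exact mul_ne_zero h0 (div_ne_zero (pow_ne_zero _ hwv) hv)

omit [FiniteDimensional F V] in
theorem Wall.equiv {V' : Type*} [AddCommGroup V'] [Module F V'] {Q' : QuadraticForm F V'}
    {g' : V' →ₗ[F] V'} (e : V ≃ₗ[F] V') (hQ : ∀ x, Q' (e x) = Q x) (he : ∀ x, g' (e x) = e (g x))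
    {d : F} (h : Wall Q g d) : Wall Q' g' d := by
  obtain ⟨h0, u, rfl⟩ := h
  have hrk : rk g = rk g' := by
    have : (comS g).map (e : V →ₗ[F] V') = comS g' := by
      ext y
      simp only [Submodule.mem_map, mem_comS, LinearEquiv.coe_coe]
      constructor
      · rintro ⟨_, ⟨x, rfl⟩, rfl⟩
        exact ⟨e x, by rw [he, map_sub]⟩
      · rintro ⟨x, rfl⟩
        obtain ⟨x, rfl⟩ := e.surjective x
        exact ⟨_, ⟨x, rfl⟩, by rw [he, map_sub]⟩
    rw [rk, rk, ← this, LinearEquiv.finrank_map_eq]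
  have hM : wallM Q' g' (e ∘ u) = wallM Q g u := by
    ext i j
    simp only [wallM_apply, Function.comp_apply, he, ← map_sub e, polarBilin_eq_of_companion,
      ← map_add e, hQ]
  exact hM ▸ wall_of_family _ (by simp [hrk]) (hM ▸ h0)

omit [FiniteDimensional F V] in
theorem pol_prod {V' : Type*} [AddCommGroup V'] [Module F V'] (Q' : QuadraticForm F V')
    (x y : V × V') : pol (Q.prod Q') x y = pol Q x.1 y.1 + pol Q' x.2 y.2 := by
  simp only [polarBilin_eq_of_companion, QuadraticMap.prod_apply, Prod.fst_add, Prod.snd_add]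
  ring

theorem Wall.prod {V' : Type*} [AddCommGroup V'] [Module F V'] [FiniteDimensional F V']
    {Q' : QuadraticForm F V'} {g' : V' →ₗ[F] V'} {d d' : F} (h : Wall Q g d) (h' : Wall Q' g' d') :
    Wall (Q.prod Q') (g.prodMap g') (d * d') := by
  obtain ⟨h0, u, rfl⟩ := h
  obtain ⟨h0', u', rfl⟩ := h'
  have hrk : rk (g.prodMap g') = rk g + rk g' := by
    have : comS (g.prodMap g') = (comS g).prod (comS g') := by
      ext ⟨y, y'⟩
      simp only [mem_comS, Submodule.mem_prod, Prod.exists, LinearMap.prodMap_apply, Prod.mk_sub_mk,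
        Prod.mk.injEq]
      exact ⟨fun ⟨a, b, h1, h2⟩ => ⟨⟨a, h1⟩, b, h2⟩, fun ⟨⟨a, h1⟩, b, h2⟩ => ⟨a, b, h1, h2⟩⟩
    rw [rk, rk, rk, this, ← finrank_prod]
    exact LinearEquiv.finrank_eq
      { toFun x := (⟨x.1.1, x.2.1⟩, ⟨x.1.2, x.2.2⟩)
        invFun x := ⟨(x.1, x.2), x.1.2, x.2.2⟩
        map_add' _ _ := rfl
        map_smul' _ _ := rfl }
  have hM : wallM (Q.prod Q') (g.prodMap g') (Sum.elim (fun i => (u i, 0)) (fun i => (0, u' i))) =
      fromBlocks (wallM Q g u) 0 0 (wallM Q' g' u') := by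
    ext (i | i) (j | j) <;> simp [wallM_apply]
  have hdet := congrArg det hM
  rw [det_fromBlocks_zero₁₂] at hdet
  exact hdet ▸ wall_of_family _ (by simp [hrk]) (hdet ▸ mul_ne_zero h0 h0')

section eu
variable [Fintype F]

/-- the quadratic character with values in `F` -/
def eu (c : F) : F := c ^ (Fintype.card F / 2)

theorem eu_mul (a b : F) : eu (a * b) = eu a * eu b := mul_pow _ _ _

theorem eu_one : eu (1 : F) = 1 := one_pow _

theorem eu_pow (a : F) (n : ℕ) : eu (a ^ n) = eu a ^ n := by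
  rw [eu, eu, ← pow_mul, ← pow_mul, mul_comm]

theorem eu_inv (a : F) : eu a⁻¹ = (eu a)⁻¹ := inv_pow _ _

variable (hF : Odd (Fintype.card F))
include hF

theorem eu_sq {c : F} (hc : c ≠ 0) : eu c ^ 2 = 1 := by
  obtain ⟨k, hk⟩ := hF
  rw [eu, ← pow_mul, show Fintype.card F / 2 * 2 = Fintype.card F - 1 by omega,
    FiniteField.pow_card_sub_one_eq_one c hc]

theorem eu_sign {c : F} (hc : c ≠ 0) : eu c = 1 ∨ eu c = -1 := sq_eq_one_iff.mp (eu_sq hF hc)

theorem eu_mul_self {c : F} (hc : c ≠ 0) : eu c * eu c = 1 := by rw [← sq, eu_sq hF hc]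

theorem eu_sq_mul {c : F} (hc : c ≠ 0) (d : F) : eu (c ^ 2 * d) = eu d := by
  rw [eu_mul, eu_pow, eu_sq hF hc, one_mul]

theorem eu_eq_one_iff {c : F} (hc : c ≠ 0) : eu c = 1 ↔ IsSquare c := by
  refine (FiniteField.isSquare_iff (fun h => ?_) hc).symm
  have := FiniteField.even_card_of_char_two h
  rw [Nat.odd_iff] at hF; omega

theorem eu_inv' {c : F} (hc : c ≠ 0) : eu c⁻¹ = eu c := by
  rw [eu_inv]; exact inv_eq_of_mul_eq_one_left (eu_mul_self hF hc)

theorem exists_eu_eq {D : F} (hD : D = 1 ∨ D = -1) : ∃ c : F, c ≠ 0 ∧ eu c = D := by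
  rcases hD with rfl | rfl
  · exact ⟨1, one_ne_zero, eu_one⟩
  · obtain ⟨c, hc⟩ := FiniteField.exists_nonsquare (F := F) (fun h => by
      have := FiniteField.even_card_of_char_two h
      rw [Nat.odd_iff] at hF; omega)
    have hc0 : c ≠ 0 := by rintro rfl; exact hc IsSquare.zero
    exact ⟨c, hc0, (eu_sign hF hc0).resolve_left fun h => hc ((eu_eq_one_iff hF hc0).mp h)⟩

end eu

variable [Fintype F]

open Classical in
/-- the spinor norm -/
noncomputable def wth (Q : QuadraticForm F V) (g : V →ₗ[F] V) : F :=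
  if h : ∃ d, Wall Q g d then eu h.choose else 1

/-- the discriminant -/
noncomputable def dsc (Q : QuadraticForm F V) : F := eu (gram (pol Q) (Module.finBasis F V)).det

variable (hF : Odd (Fintype.card F))
include hF

theorem Wall.wth_eq (hg : ∀ x, Q (g x) = Q x) {d : F} (h : Wall Q g d) : wth Q g = eu d := by
  have h1 : ∃ d, Wall Q g d := ⟨d, h⟩
  rw [wth, dif_pos h1]
  obtain ⟨c, hc⟩ := h.unique hg h1.choose_spec
  have hc0 : c ≠ 0 := by
    rintro rfl
    exact h1.choose_spec.1 (by simpa using hc)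
  rw [hc, eu_sq_mul hF hc0]

theorem wth_sign (hB : (pol Q).Nondegenerate) (hg : ∀ x, Q (g x) = Q x) :
    wth Q g = 1 ∨ wth Q g = -1 := by
  obtain ⟨d, hd⟩ := exists_wall hB hg
  rw [hd.wth_eq hF hg]; exact eu_sign hF hd.1

theorem wth_refl (hB : (pol Q).Nondegenerate) (hg : ∀ x, Q (g x) = Q x) {v : V} (hv : Q v ≠ 0) :
    wth Q (refl Q v ∘ₗ g) = eu (Q v) * wth Q g := by
  have key : ∀ {g : V →ₗ[F] V}, (∀ x, Q (g x) = Q x) → v ∉ comS g →
      wth Q (refl Q v ∘ₗ g) = eu (Q v) * wth Q g := by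
    intro g hg h
    obtain ⟨d, hd⟩ := exists_wall hB hg
    obtain ⟨c, hc, h1⟩ := hd.refl_up hB hg hv h
    rw [h1.wth_eq hF (refl_comp_quad hg hv), hd.wth_eq hF hg, eu_mul, div_eq_mul_inv,
      eu_sq_mul hF hc, eu_inv' hF hv, mul_comm]
  by_cases h : v ∈ comS g
  · have h1 : v ∉ comS (refl Q v ∘ₗ g) := fun h1 => by
      have a1 := rk_refl_comp_of_mem hB hg hv h
      have a2 := rk_refl_comp_of_mem hB (refl_comp_quad hg hv) hv h1
      rw [refl_comp_refl_comp g hv] at a2
      omega
    have := key (refl_comp_quad hg hv) h1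
    rw [refl_comp_refl_comp g hv] at this
    rw [this, ← mul_assoc, eu_mul_self hF hv, one_mul]
  · exact key hg h

omit hF [FiniteDimensional F V] in
theorem wth_id : wth Q LinearMap.id = 1 := by
  have h : ∀ d, Wall Q LinearMap.id d → d = 1 := by
    rintro d ⟨-, u, rfl⟩
    have : IsEmpty (Fin (rk (LinearMap.id : V →ₗ[F] V))) := by rw [rk_id]; infer_instance
    exact det_isEmpty
  rw [wth]
  split_ifs with h1
  · rw [h _ h1.choose_spec, eu_one]
  · rfl

theorem wth_comp (hB : (pol Q).Nondegenerate) (h5 : 5 ≤ finrank F V) (hg : ∀ x, Q (g x) = Q x)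
    {h : V →ₗ[F] V} (hh : ∀ x, Q (h x) = Q x) : wth Q (g ∘ₗ h) = wth Q g * wth Q h := by
  refine isometry_induction hB h5 (fun g => wth Q (g ∘ₗ h) = wth Q g * wth Q h) ?_ ?_ g hg
  · rw [wth_id, one_mul, LinearMap.id_comp]
  · intro g v hg hv ih
    rw [LinearMap.comp_assoc, wth_refl hF hB (fun x => by rw [LinearMap.comp_apply, hg, hh]) hv,
      wth_refl hF hB hg hv, ih, mul_assoc]

omit hF [Fintype F] [FiniteDimensional F V] in
theorem gram_pol_det_ne_zero (hB : (pol Q).Nondegenerate) {κ : Type*} [Fintype κ] [DecidableEq κ]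
    (b : Basis κ F V) : (gram (pol Q) b).det ≠ 0 := gram_det_ne_zero _ b hB.1

theorem dsc_eq {κ : Type*} [Fintype κ] [DecidableEq κ] (b : Basis κ F V) :
    dsc Q = eu (gram (pol Q) b).det := by
  let e : Fin (finrank F V) ≃ κ := (Fintype.equivFinOfCardEq (finrank_eq_card_basis b).symm).symm
  have h1 : (gram (pol Q) (b.reindex e.symm)).det = (gram (pol Q) b).det := by
    rw [← det_submatrix_equiv_self e]
    congr 1
    ext i j
    simp
  rw [← h1, dsc]
  generalize b.reindex e.symm = b'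
  generalize Module.finBasis F V = b
  have h2 := LinearMap.BilinForm.toMatrix_mul_basis_toMatrix b' b (pol Q)
  have h3 : ∀ b : Basis (Fin (finrank F V)) F V,
      LinearMap.BilinForm.toMatrix b (pol Q) = gram (pol Q) b := fun b => by
    ext i j; rw [LinearMap.BilinForm.toMatrix_apply, gram_apply]
  rw [h3, h3] at h2
  have h4 : (b'.toMatrix b).det ≠ 0 := fun h => by
    have := congrArg det (b'.toMatrix_mul_toMatrix_flip b)
    rw [det_mul, h, zero_mul, det_one] at this
    exact zero_ne_one this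
  rw [← h2, det_mul, det_mul, det_transpose, ← eu_sq_mul hF h4 (gram (pol Q) b').det]
  congr 1; ring

theorem dsc_sign (hB : (pol Q).Nondegenerate) : dsc Q = 1 ∨ dsc Q = -1 :=
  eu_sign hF (gram_pol_det_ne_zero hB _)

/-- the spinor norm of an isometry without fixed vectors -/
theorem wth_eq_of_one_sub (hB : (pol Q).Nondegenerate) (hg : ∀ x, Q (g x) = Q x)
    (h : LinearMap.det (1 - g) ≠ 0) : wth Q g = dsc Q * eu (LinearMap.det (1 - g)) := by
  let b := Module.finBasis F V
  have hM : wallM Q g b = gram (pol Q) b * LinearMap.toMatrix b b (1 - g) := by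
    ext i j
    rw [wallM_apply, mul_apply]
    conv_lhs => rw [show b j - g (b j) = (1 - g) (b j) from rfl, ← b.sum_repr ((1 - g) (b j))]
    simp only [map_sum, map_smul, smul_eq_mul, gram_apply, LinearMap.toMatrix_apply, mul_comm]
  have hd : (wallM Q g b).det = (gram (pol Q) b).det * LinearMap.det (1 - g) := by
    rw [hM, det_mul, LinearMap.det_toMatrix]
  have hrk : rk g = finrank F V := by
    have h1 := rk_add_finrank_fixS g
    have h2 : fixS g = ⊥ := by
      rw [eq_bot_iff]
      intro x hx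
      have h3 := (LinearMap.isUnit_iff_ker_eq_bot _).mp
        ((LinearMap.isUnit_iff_isUnit_det _).mpr (Ne.isUnit h))
      rw [← h3, LinearMap.mem_ker, LinearMap.sub_apply, mem_fixS.mp hx]
      exact sub_self _
    rw [h2, finrank_bot] at h1
    exact h1
  rw [(wall_of_family b (by simp [hrk]) (hd ▸ mul_ne_zero (gram_pol_det_ne_zero hB b) h)).wth_eq
    hF hg, hd, eu_mul, dsc]

theorem dsc_orthFam {κ : Type*} [Fintype κ] [DecidableEq κ] {v : κ → V} (hv : OrthFam Q v)
    (hκ : Fintype.card κ = finrank F V) : dsc Q = eu (2 ^ finrank F V * ∏ i, Q (v i)) := by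
  have h2 := two_ne_zero_of_odd hF
  rcases isEmpty_or_nonempty κ with h | h
  · have h0 : finrank F V = 0 := by rw [← hκ, Fintype.card_eq_zero]
    have : IsEmpty (Fin (finrank F V)) := by rw [h0]; infer_instance
    rw [dsc, det_isEmpty, h0]; simp
  rw [dsc_eq hF (basisOfLinearIndependentOfCardEqFinrank (hv.linearIndependent h2) hκ),
    coe_basisOfLinearIndependentOfCardEqFinrank]
  have : gram (pol Q) v = diagonal fun i => 2 * Q (v i) := by
    ext i j
    by_cases hij : i = j
    · subst hij; rw [gram_apply, diagonal_apply_eq, polar_self']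
    · rw [gram_apply, diagonal_apply_ne _ hij, hv.1 i j hij]
  rw [this, det_diagonal, Finset.prod_mul_distrib, Finset.prod_const, Finset.card_univ, hκ]

theorem wth_neg (hB : (pol Q).Nondegenerate) (hg : ∀ x, Q (g x) = Q x) :
    wth Q (-g) = dsc Q * eu (2 ^ finrank F V) * wth Q g := by
  have h2 := two_ne_zero_of_odd hF
  obtain ⟨v, hv, -⟩ := exists_orthFam_const hF hB (c := 1) one_ne_zero
  have key : ∀ s : Finset (Fin (finrank F V)), ∃ h : V →ₗ[F] V, (∀ x, Q (h x) = Q x) ∧
      (∀ i, h (v i) = if i ∈ s then -v i else v i) ∧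
      wth Q (h ∘ₗ g) = eu (∏ i ∈ s, Q (v i)) * wth Q g := by
    intro s
    induction s using Finset.induction_on with
    | empty => exact ⟨LinearMap.id, fun _ => rfl, fun i => by simp, by simp [eu_one]⟩
    | insert a s ha ih =>
      obtain ⟨h, h1, h2, h3⟩ := ih
      refine ⟨refl Q (v a) ∘ₗ h, refl_comp_quad h1 (hv.2 a), fun i => ?_, ?_⟩
      · rw [LinearMap.comp_apply, h2]
        by_cases hi : i = a
        · subst hi; simp [ha, refl_self (hv.2 i)]
        · simp only [Finset.mem_insert, hi, false_or]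
          split_ifs
          · rw [map_neg, refl_of_perp (hv.1 i a hi)]
          · rw [refl_of_perp (hv.1 i a hi)]
      · rw [LinearMap.comp_assoc, wth_refl hF hB (fun x => by rw [LinearMap.comp_apply, h1, hg])
          (hv.2 a), h3, Finset.prod_insert ha, eu_mul, mul_assoc]
  obtain ⟨h, -, h3, h4⟩ := key Finset.univ
  have hh : h = -LinearMap.id := by
    rcases Nat.eq_zero_or_pos (finrank F V) with h0 | h0
    · have := Module.finrank_zero_iff.mp h0
      exact Subsingleton.elim _ _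
    have : Nonempty (Fin (finrank F V)) := ⟨⟨0, h0⟩⟩
    refine (basisOfLinearIndependentOfCardEqFinrank (hv.linearIndependent h2) (by simp)).ext
      fun i => ?_
    simp [h3]
  rw [hh, LinearMap.neg_comp, LinearMap.id_comp] at h4
  rw [h4, dsc_orthFam hF hv (by simp), eu_mul, mul_right_comm (eu _),
    eu_mul_self hF (pow_ne_zero _ h2), one_mul]

/-- the spinor norm of an isometry without eigenvalue `-1` -/
theorem wth_eq_of_one_add (hB : (pol Q).Nondegenerate) (hg : ∀ x, Q (g x) = Q x)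
    (h : LinearMap.det (1 + g) ≠ 0) :
    wth Q g = eu (2 ^ finrank F V * LinearMap.det (1 + g)) := by
  have h1 := wth_eq_of_one_sub hF hB (g := -g) (fun x => by
    rw [LinearMap.neg_apply, QuadraticMap.map_neg, hg]) (by rwa [sub_neg_eq_add])
  rw [wth_neg hF hB hg, sub_neg_eq_add, mul_assoc] at h1
  have h2 : dsc Q ≠ 0 := by rcases dsc_sign hF hB with h | h <;> simp [h]
  have h3 := mul_left_cancel₀ h2 h1
  rw [eu_mul, ← h3, ← mul_assoc, eu_mul_self hF (pow_ne_zero _ (two_ne_zero_of_odd hF)), one_mul]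

theorem wth_prod {V' : Type*} [AddCommGroup V'] [Module F V'] [FiniteDimensional F V']
    {Q' : QuadraticForm F V'} {g' : V' →ₗ[F] V'} (hB : (pol Q).Nondegenerate)
    (hg : ∀ x, Q (g x) = Q x) (hB' : (pol Q').Nondegenerate) (hg' : ∀ x, Q' (g' x) = Q' x) :
    wth (Q.prod Q') (g.prodMap g') = wth Q g * wth Q' g' := by
  obtain ⟨d, hd⟩ := exists_wall hB hg
  obtain ⟨d', hd'⟩ := exists_wall hB' hg'
  rw [(hd.prod hd').wth_eq hF (fun x => by simp [hg, hg']), hd.wth_eq hF hg, hd'.wth_eq hF hg',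
    eu_mul]

theorem dsc_prod {V' : Type*} [AddCommGroup V'] [Module F V'] [FiniteDimensional F V']
    (Q' : QuadraticForm F V') : dsc (Q.prod Q') = dsc Q * dsc Q' := by
  rw [dsc_eq hF ((Module.finBasis F V).prod (Module.finBasis F V')), dsc, dsc, ← eu_mul,
    ← det_fromBlocks_zero₁₂ _ 0]
  congr 2
  ext (i | i) (j | j) <;> simp [gram_apply]

omit hF in
theorem dsc_smul (c : F) : dsc (c • Q) = eu (c ^ finrank F V) * dsc Q := by
  rw [dsc, dsc, ← eu_mul]
  have : gram (pol (c • Q)) (Module.finBasis F V) = c • gram (pol Q) (Module.finBasis F V) := by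
    ext i j
    simp only [gram_apply, polarBilin_eq_of_companion, Matrix.smul_apply, _root_.smul_apply,
      smul_eq_mul]
    ring
  rw [this, det_smul, Fintype.card_fin]

theorem wth_equiv {V' : Type*} [AddCommGroup V'] [Module F V'] [FiniteDimensional F V']
    {Q' : QuadraticForm F V'} {g' : V' →ₗ[F] V'} (hB : (pol Q).Nondegenerate)
    (hg : ∀ x, Q (g x) = Q x) (e : V ≃ₗ[F] V') (hQ : ∀ x, Q' (e x) = Q x)
    (he : ∀ x, g' (e x) = e (g x)) : wth Q' g' = wth Q g := by
  obtain ⟨d, hd⟩ := exists_wall hB hg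
  rw [hd.wth_eq hF hg, (hd.equiv e hQ he).wth_eq hF fun x => by
    obtain ⟨x, rfl⟩ := e.surjective x
    rw [he, hQ, hQ, hg]]

theorem exists_orthFam_last (hB : (pol Q).Nondegenerate) {n : ℕ} (hW : finrank F V = n + 1) :
    ∃ v : Fin (n + 1) → V, OrthFam Q v ∧ (∀ i, i ≠ Fin.last n → Q (v i) = 1) ∧
      dsc Q = eu (2 ^ (n + 1) * Q (v (Fin.last n))) := by
  obtain ⟨v, hv, hv1⟩ := exists_orthFam_const hF hB (c := 1) one_ne_zero
  have hv' := hv.comp (Fin.cast_injective hW.symm)
  have h1 : ∀ i, i ≠ Fin.last n → Q ((v ∘ Fin.cast hW.symm) i) = 1 := fun i hi =>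
    hv1 _ (by have := Fin.val_lt_last hi; simp; omega)
  refine ⟨_, hv', h1, ?_⟩
  rw [dsc_orthFam hF hv' (by simp [hW]), Fin.prod_univ_castSucc,
    Finset.prod_eq_one fun i _ => h1 _ (Fin.castSucc_ne_last i), one_mul,
    show (2 : F) ^ finrank F V = 2 ^ (n + 1) by rw [hW]]

/-- Forms with the same dimension and discriminant are isometric. -/
theorem exists_isometry_of_dsc {V' : Type*} [AddCommGroup V'] [Module F V']
    [FiniteDimensional F V'] {Q' : QuadraticForm F V'} (hB : (pol Q).Nondegenerate)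
    (hB' : (pol Q').Nondegenerate) (hn : finrank F V = finrank F V') (hD : dsc Q = dsc Q') :
    ∃ e : V ≃ₗ[F] V', ∀ x, Q' (e x) = Q x := by
  have h2 := two_ne_zero_of_odd hF
  rcases Nat.eq_zero_or_pos (finrank F V) with h0 | h0
  · have := Module.finrank_zero_iff.mp h0
    have := Module.finrank_zero_iff.mp (hn ▸ h0)
    exact ⟨LinearEquiv.ofSubsingleton _ _, fun x => by
      rw [Subsingleton.elim x 0, map_zero, map_zero, map_zero]⟩
  obtain ⟨n, hn'⟩ : ∃ n, finrank F V = n + 1 := ⟨finrank F V - 1, by omega⟩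
  obtain ⟨v, hv, h1, h3⟩ := exists_orthFam_last hF hB hn'
  obtain ⟨v', hv', h1', h3'⟩ := exists_orthFam_last hF hB' (hn ▸ hn')
  have ha := hv.2 (Fin.last n)
  have ha' := hv'.2 (Fin.last n)
  obtain ⟨c, hc⟩ : IsSquare (Q' (v' (Fin.last n)) / Q (v (Fin.last n))) := by
    rw [← eu_eq_one_iff hF (div_ne_zero ha' ha), div_eq_mul_inv, eu_mul, eu_inv' hF ha]
    rw [h3, h3', eu_mul, eu_mul] at hD
    rw [← mul_left_cancel₀ (pow_ne_zero _ (pow_ne_zero _ h2)) hD, eu_mul_self hF ha]
  have hc0 : c ≠ 0 := by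
    rintro rfl
    exact div_ne_zero ha' ha (by simpa using hc)
  let s : Fin (n + 1) → F := fun i => if i = Fin.last n then c else 1
  have hs : ∀ i, s i ≠ 0 := fun i => by simp only [s]; split_ifs <;> simp [hc0]
  have hw : OrthFam Q (fun i => s i • v i) :=
    ⟨fun i j hij => by
      rw [map_smul, map_smul, LinearMap.smul_apply, hv.1 i j hij, smul_zero, smul_zero],
    fun i => by rw [quad_smul]; exact mul_ne_zero (pow_ne_zero _ (hs i)) (hv.2 i)⟩
  have hQ : ∀ i, Q (s i • v i) = Q' (v' i) := fun i => by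
    rw [quad_smul]
    by_cases hi : i = Fin.last n
    · subst hi
      simp only [s, if_true]
      rw [sq, ← hc, div_mul_cancel₀ _ ha]
    · simp [s, hi, h1 i hi, h1' i hi]
  let b := basisOfLinearIndependentOfCardEqFinrank (hw.linearIndependent h2) (by simp [hn'])
  let b' := basisOfLinearIndependentOfCardEqFinrank (hv'.linearIndependent h2)
    (by simp [← hn, hn'])
  have hg : gram (pol Q') b' = gram (pol Q) b := by
    ext i j
    simp only [gram_apply, b, b', coe_basisOfLinearIndependentOfCardEqFinrank]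
    by_cases hij : i = j
    · subst hij; rw [polar_self', polar_self', hQ]
    · rw [hw.1 i j hij, hv'.1 i j hij]
  refine ⟨b.equiv b' (Equiv.refl _), fun x => ?_⟩
  apply mul_left_cancel₀ h2
  rw [← polar_self', ← polar_self']
  have e1 := form_eq_repr (τ := RingHom.id F) (pol Q') b' (b.equiv b' (Equiv.refl _) x)
    (b.equiv b' (Equiv.refl _) x)
  have e2 := form_eq_repr (τ := RingHom.id F) (pol Q) b x x
  have e3 : b'.repr (b.equiv b' (Equiv.refl _) x) = b.repr x := by
    simp [Basis.equiv]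
  rw [e1, e2, hg, e3]

section omega
variable {ι : Type} [Fintype ι] [DecidableEq ι] {Q : QuadraticForm F (ι → F)}

theorem wth_olin_mul (hB : (pol Q).Nondegenerate) (h5 : 5 ≤ Fintype.card ι)
    (g h : isometryGroup F Q) : wth Q (olin (g * h)) = wth Q (olin g) * wth Q (olin h) := by
  rw [olin_mul, wth_comp hF hB (by simpa using h5) (olin_quad g) (olin_quad h)]

/-- the spinor norm as a homomorphism -/
noncomputable def wthHom (hB : (pol Q).Nondegenerate) (h5 : 5 ≤ Fintype.card ι) :
    isometryGroup F Q →* F where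
  toFun g := wth Q (olin g)
  map_one' := by rw [olin_one, wth_id]
  map_mul' := wth_olin_mul hF hB h5

theorem wth_olin_pow (hB : (pol Q).Nondegenerate) (h5 : 5 ≤ Fintype.card ι)
    (g : isometryGroup F Q) (k : ℕ) : wth Q (olin (g ^ k)) = wth Q (olin g) ^ k :=
  map_pow (wthHom hF hB h5) g k

theorem mem_omega_iff_wth (hB : (pol Q).Nondegenerate) (h5 : 5 ≤ Fintype.card ι)
    (g : isometryGroup F Q) :
    g ∈ Omega F Q ↔ LinearMap.det (olin g) = 1 ∧ wth Q (olin g) = 1 := by
  have h2 := two_ne_zero_of_odd hF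
  constructor
  · intro hg
    refine ⟨det_olin_of_mem_commutator hg, ?_⟩
    have := Abelianization.commutator_subset_ker (wthHom hF hB h5).toHomUnits hg
    exact congrArg Units.val (MonoidHom.mem_ker.mp this)
  have hex : ∀ c : F, c ≠ 0 → ∃ v, Q v = c := fun c hc => by
    obtain ⟨v, -, hv⟩ := exists_orthFam_const hF hB hc
    exact ⟨v ⟨0, by simp; omega⟩, hv _ (by simp; omega)⟩
  obtain ⟨a, ha⟩ := hex 1 one_ne_zero
  obtain ⟨c, hc0, hc⟩ := exists_eu_eq hF (Or.inr rfl)
  obtain ⟨b, hb⟩ := hex c hc0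
  have ha0 : Q a ≠ 0 := ha ▸ one_ne_zero
  have hb0 : Q b ≠ 0 := hb ▸ hc0
  have key : ∀ g : isometryGroup F Q, ∃ i j : ℕ, Abelianization.of g =
      Abelianization.of (oRefl Q a ha0) ^ i * Abelianization.of (oRefl Q b hb0) ^ j ∧
      LinearMap.det (olin g) = (-1) ^ (i + j) ∧ wth Q (olin g) = (-1) ^ j := by
    refine isometryGroup_induction hB h5 ⟨0, 0, by simp, by simp [olin_one], by
      simp [olin_one, wth_id]⟩ ?_
    rintro g v hv ⟨i, j, h1, h3, h4⟩
    have e1 : LinearMap.det (olin (oRefl Q v hv * g)) = (-1) ^ (i + j + 1) := by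
      rw [olin_mul, LinearMap.det_comp, olin_oRefl, det_refl hv, h3]; ring
    have e2 : wth Q (olin (oRefl Q v hv * g)) = eu (Q v) * (-1) ^ j := by
      rw [olin_mul, olin_oRefl, wth_refl hF hB (olin_quad g) hv, h4]
    rcases eu_sign hF hv with h | h
    · refine ⟨i + 1, j, ?_, by rw [e1]; ring, by rw [e2, h, one_mul]⟩
      have := isConj_oRefl hB hv ha0 (by
        rw [ha, mul_one]; exact (eu_eq_one_iff hF hv).mp h)
      rw [map_mul, h1, isConj_iff_eq.mp (Abelianization.of.map_isConj this), pow_succ', mul_assoc]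
    · refine ⟨i, j + 1, ?_, by rw [e1]; ring, by rw [e2, h]; ring⟩
      have := isConj_oRefl hB hv hb0 (by
        rw [← eu_eq_one_iff hF (mul_ne_zero hv hb0), eu_mul, h, hb, hc]; ring)
      rw [map_mul, h1, isConj_iff_eq.mp (Abelianization.of.map_isConj this), pow_succ',
        mul_left_comm]
  rintro ⟨h3, h4⟩
  obtain ⟨i, j, h1, h6, h7⟩ := key g
  have hne : (-1 : F) ≠ 1 := fun h => h2 (by linear_combination -h)
  have hj : Even j := (neg_one_pow_eq_one_iff_even hne).mp (h7 ▸ h4)
  have hij : Even (i + j) := (neg_one_pow_eq_one_iff_even hne).mp (h6 ▸ h3)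
  have hi : Even i := (Nat.even_add.mp hij).mpr hj
  have hsq : ∀ (v) (hv : Q v ≠ 0) (k : ℕ), Even k → Abelianization.of (oRefl Q v hv) ^ k = 1 := by
    rintro v hv _ ⟨k, rfl⟩
    rw [← two_mul, pow_mul, sq, ← map_mul, oRefl_mul_self, map_one, one_pow]
  rw [hsq _ _ _ hi, hsq _ _ _ hj, one_mul] at h1
  exact (QuotientGroup.eq_one_iff g).mp h1

end omega

end Cfsg.Agent.HForm
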